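import Cfsg.Agent.W.CI2
import Cfsg.Agent.Hz.S4
import Cfsg.Agent.S3183

/-! Central Sylow 2-intersections: the global step. -/

set_option autoImplicit false
set_option linter.unusedSectionVars false
set_option linter.unusedVariables false

namespace W

open Cfsg Subgroup FT H4 GW
open H5 (IsSylowOf im pre)

universe u

variable {G : Type u} [Group G] [Finite G] {S T H K M N B B' : Subgroup G}

theorem pow_lt {E : Subgroup G} (h : IsPGroup 2 E) (k : ℕ) (e : 2 ^ k < Nat.card E) :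
    2 ^ (k + 1) ≤ Nat.card E := by
  obtain ⟨n, hn⟩ := IsPGroup.iff_card.1 h
  rw [hn] at e ⊢
  exact Nat.pow_le_pow_right two_pos ((Nat.pow_lt_pow_iff_right one_lt_two).1 e)

theorem two_ne_top {E : Subgroup G} (h0 : pCoreIn 2 (⊤ : Subgroup G) = ⊥) (h : IsPGroup 2 E)
    (e : E ≠ ⊥) : Nor E ≠ ⊤ := fun e1 => e (eq_bot_iff.2 (h0 ▸ le_pCoreIn le_top e1.ge h))

namespace GC

variable (c : GC S)
include c

theorem le_c1 {a : G} (ha : a ∈ Om S) : S ≤ Cen1 a := cen_iff_le.1 (c.cen ha)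

theorem sylc {a : G} (ha : a ∈ Om S) : IsSylowOf 2 S (Cen1 a) := c.syl.of_le (c.le_c1 ha) le_top

theorem nE (hB : B ≤ S) : Nor B ≤ Nor (Om S ⊓ B : Subgroup G) := fun g hg => mnor fun x hx =>
  ⟨c.mem.2 ⟨hB (cmem hg hx.2), csq (c.sq hx.1)⟩, cmem hg hx.2⟩

theorem mB {a : G} (ha : a ∈ Om S) : a ∈ Om S ⊓ (S ⊓ Opp 2 (Cen1 a)) :=
  ⟨ha, Om_le S ha, pCoreIn_le_Opp 2 _ (le_pCoreIn (zpowers_le.2 (c1.2 rfl)) (nzp le_rfl)
    (c.syl.isPGroup.to_le (zpowers_le.2 (Om_le S ha))) (mem_zpowers a))⟩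

theorem fix (hO : oddCore G = ⊥) (h0 : pCoreIn 2 (⊤ : Subgroup G) = ⊥) (v : G) (hv : v ∈ Om S)
    (h : ∀ g ∈ Nor S, g * v * g⁻¹ = v) : v = 1 := by
  by_contra v1
  obtain ⟨P, rfl⟩ := c.syl.exists_sylow_top
  exact two_ne_top h0 (two_zp (o2 (c.sq hv) v1)) (zpowers_ne_bot.2 v1) (top_le_iff.1 (nzp
    fun g _ => c1.2 (H3.commute_of_isolated hO (o2 (c.sq hv) v1) (H3.isolated_of_normalizer P
      ⟨1, by rw [pow_one, pow_two, c.sq hv]⟩ (c.cen hv)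
      (fun g hg => c.inv _ hg (csq (c.sq hv))) h) g)))

theorem glob (h : CI (⊤ : Subgroup G)) (hO : oddCore G = ⊥) (h0 : pCoreIn 2 (⊤ : Subgroup G) = ⊥)
    (gen : ∀ N : Subgroup G, N.Normal → S ≤ N → N = ⊤)
    (ih : ∀ a ∈ Om S, a ≠ 1 → TO (Cen1 a)) : HasSE G := by
  have hS := c.syl
  have fx := c.fix hO h0
  have S0 : S ≠ ⊥ := fun e => c.na (e.le.trans bot_le)
  have A2 := hS.isPGroup.to_le (Om_le S)
  have mA : ∀ t ∈ S, orderOf t = 2 → t ∈ Om S := fun t ht ot => c.mem.2 ⟨ht, ii ot⟩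
  obtain ⟨z, hz, zz, z1, -⟩ := H5.Dich.exists_central hS.isPGroup S0
  have zA := c.mem.2 ⟨hz, zz⟩
  obtain ⟨n, hn, n1⟩ : ∃ n ∈ Nor S, n * z * n⁻¹ ≠ z := by
    by_contra! e
    exact z1 (fx z zA e)
  have h4 : 2 ^ 2 ≤ Nat.card (Om S) := Hz.four_le_card zA (cmem (nOm S hn) zA) ⟨z1, zz⟩
    ⟨fun e => z1 (by simpa using e), csq zz⟩ n1.symm (c.cm zA (cmem hn hz))
  rcases h4.eq_or_lt with e4 | h8
  · have nc : n ∉ Cen (Om S) := fun e => n1 (by rw [GW.cen.1 e z zA, mul_inv_cancel_right])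
    rcases Ly.ab_or_u34 hS e4.symm (fun x => c.mem) (fun z hz x hx => (c.cm hz hx).symm) hn nc
      with e | e
    · exact (c.na fun x hx => GW.cen.2 fun y hy => H5.comm_of_isMulCommutative e hx hy).elim
    have := e.simple hS hn nc hO gen
    exact ⟨_, (e.base hS hn nc).se⟩
  replace h8 := pow_lt A2 _ h8
  have ci : ∀ a ∈ Om S, CI (Cen1 a) := fun a ha => h.of_le hS (c.le_c1 ha) le_top
  have tk : ∀ a ∈ Om S, a ≠ 1 → ¬ Om S ≤ Opp 2 (Cen1 a) → TK S (S ⊓ Opp 2 (Cen1 a)) :=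
    fun a ha a1 e => by
    have e' : ¬ S ≤ Opp 2 (Cen1 a) := fun e' => e ((Om_le S).trans e')
    obtain ⟨X, _, _, N, f, D, t, s⟩ := (ci a ha).sec (ih a ha a1) (c.sylc ha) e'
    exact s.tk (c.sylc ha) ((ci a ha).B_le (c.sylc ha) e') c.inv c.na e
  have f4 : ∀ a ∈ Om S, a ≠ 1 →
      2 ^ 2 ≤ Nat.card (Om S ⊓ (S ⊓ Opp 2 (Cen1 a)) : Subgroup G) := fun a ha a1 => by
    by_cases e : Om S ≤ Opp 2 (Cen1 a)
    · rwa [inf_eq_left.2 (le_inf (Om_le S) e)]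
    exact pow_lt A2.to_inf_left 1 (lt_of_le_of_ne ((one_lt_card_iff_ne_bot _).2
      (ne_bot_of (c.mB ha) a1)) fun e1 => c.no1 fx (tk a ha a1 e) e1.symm)
  have sg := H5.SS.core_sig c.elem (fun a _ _ => odd_solv (odd_Oo (Cen1 a))) fun a ha a1 b hb b1 =>
    (ci b hb).lb (ih b hb b1) (c.sylc hb) inf_le_right (odd_of_le inf_le_left (odd_Oo (Cen1 a)))
      (ninf ((c.le_c1 ha).trans (lOo _)) (nc1 (c.le_c1 hb)))
  have cp := H5.SS.ssft_two c.elem h8 sg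
  have ncl : ∀ E : Subgroup G, Nor E ≤ Nor (H5.Dich.cl E) := fun E g hg =>
    mem_normalizer_iff_conjS.2 (by rw [H5.Dich.conjS_cl, mem_normalizer_iff_conjS.1 hg])
  by_cases hW : Nor (H5.Dich.cl (Om S)) = ⊤
  swap
  · refine ⟨_, se_crit hS S0 hW ((nOm S).trans (ncl _)) fun t ht ot => (fratt (c.sylc (mA t ht ot))).trans
      (sup_le (lnor (H5.SS.le_closure' (θ := H5.Dich.th) (mA t ht ot) (ine ot))) ?_)⟩
    rw [H5.Dich.cl, ← cp.closure_eq c.elem sg inf_le_left (f4 t (mA t ht ot) (ine ot))]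
    exact inf_le_right.trans ((c.nE inf_le_left).trans (ncl _))
  have U0 : ∀ a ∈ Om S, a ≠ 1 → Oo (Cen1 a) = ⊥ := fun a ha a1 => eq_bot_iff.2
    ((H5.SS.le_closure' (θ := H5.Dich.th) ha a1).trans ((GW.le_Oo le_top hW.ge
      (Nat.not_even_iff_odd.1 fun e => H5.fam_not_dvd (cp.closure_mem sg) e.two_dvd)).trans
        ((pPrimeCoreIn_top 2).trans hO).le))
  have op : ∀ a ∈ Om S, a ≠ 1 → ∀ T, IsSylowOf 2 T (Cen1 a) → Opp 2 (Cen1 a) ≤ T :=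
    fun a ha a1 T hT => hT.le_of_le_normalizer ((Opp_eq_pCoreIn (U0 a ha a1)).symm ▸
      isPGroup_pCoreIn 2 _) (Opp_le 2 _) (hT.le.trans (le_nor_Opp 2 _))
  have nr : ∀ a ∈ Om S, a ≠ 1 → Cen1 a ≤ Nor (Om S ⊓ (S ⊓ Opp 2 (Cen1 a)) : Subgroup G) :=
    fun a ha a1 => le_trans (by rw [inf_eq_right.2 (op a ha a1 S (c.sylc ha))]; exact le_nor_Opp 2 _)
      (c.nE inf_le_left)
  have nA : ∀ a ∈ Om S, a ≠ 1 → Om S ≤ Opp 2 (Cen1 a) → Cen1 a ≤ Nor (Om S) := fun a ha a1 e => by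
    simpa only [inf_eq_left.2 (le_inf (Om_le S) e)] using nr a ha a1
  have f1 : ∀ T, IsSylowOf 2 T ⊤ → T ≠ S → ∀ e ∈ Om S, e ≠ 1 → e ∈ T →
      S ⊓ T = S ⊓ Opp 2 (Cen1 e) := fun T hT ne e he e1 eT => by
    have hT' := hT.of_le (cen_iff_le.1 (h T S hT hS ne ⟨eT, Om_le S he⟩)) le_top
    refine le_antisymm (le_inf inf_le_left ((ih e he e1 S T (c.sylc he) hT').resolve_right
      fun e2 => ne ?_)) (inf_le_inf_left _ (op e he e1 T hT'))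
    rw [U0 e he e1, sup_bot_eq] at e2
    exact (hT.eq_of_le hS.isPGroup e2 le_top).symm
  let P : Subgroup G → Prop := fun B => TK S B ∧ 4 ≤ Nat.card (Om S ⊓ B : Subgroup G) ∧
    ∃ T, IsSylowOf 2 T ⊤ ∧ T ≠ S ∧ B = S ⊓ T
  have p1 : ∀ a ∈ Om S, a ≠ 1 → ¬ Om S ≤ Opp 2 (Cen1 a) → P (S ⊓ Opp 2 (Cen1 a)) :=
    fun a ha a1 e => by
    obtain ⟨n, hn, n1⟩ : ∃ n ∈ Cen1 a, n ∉ Nor S := SetLike.not_le_iff_exists.1 fun e1 =>
      e ((Om_le S).trans ((le_pCoreIn (c.le_c1 ha) e1 hS.isPGroup).trans (pCoreIn_le_Opp 2 _)))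
    have hT := hS.map_conj (g := n) (le_normalizer (mem_top n))
    have ne := mt mem_normalizer_iff_conjS.2 n1
    exact ⟨tk a ha a1 e, f4 a ha a1, _, hT, ne,
      (f1 _ hT ne a ha a1 (c1'.1 hn ▸ conj_mem_conjS (Om_le S ha))).symm⟩
  have p2 : ∀ g ∈ Nor S, ∀ B, P B → P (conjS g B) := by
    rintro g hg _ ⟨h1, h2, T, h3, h4, rfl⟩
    have e := mem_normalizer_iff_conjS.1 hg
    refine ⟨h1.conj hg, ?_, _, h3.map_conj (g := g) (le_normalizer (mem_top g)), fun e1 => h4 ?_,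
      by rw [conjS_inf, e]⟩
    · rwa [← mem_normalizer_iff_conjS.1 (nOm S hg), ← conjS_inf, card_conjS]
    · rw [← conjS_inv_conjS g T, ← conjS_inv_conjS g S, e]
      exact congrArg _ e1
  have un := fun B B' => c.no2 (B := B) (B' := B') (fun _ p => p.1) p2 (by
    rintro _ _ ⟨-, -, T, h1, h2, rfl⟩ ⟨-, -, T', h3, h4, rfl⟩ e
    obtain ⟨b, hb, b1⟩ := ex_ne e
    rw [f1 T h1 h2 b hb.1.1 b1 hb.1.2.2, f1 T' h3 h4 b hb.1.1 b1 hb.2.2.2]) fun _ p => p.2.1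
  by_cases e : ∃ B, P B
  swap
  · exact ⟨_, se_crit hS S0 (two_ne_top h0 A2 (ne_bot_of zA z1)) (nOm S) fun t ht ot =>
      nA t (mA t ht ot) (ine ot) (by_contra fun e1 => e ⟨_, p1 t (mA t ht ot) (ine ot) e1⟩)⟩
  obtain ⟨B, p⟩ := e
  have n1 : Nor S ≤ Nor (Om S ⊓ B : Subgroup G) := fun g hg => mem_normalizer_iff_conjS.2 (by
    rw [conjS_inf, mem_normalizer_iff_conjS.1 (nOm S hg), un _ _ (p2 g hg B p) p])
  refine ⟨_, se_crit hS S0 (two_ne_top h0 A2.to_inf_left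
    (H5.ne_bot_of_card_ge (p := 2) (k := 1) p.2.1)) n1 fun t ht ot => ?_⟩
  by_cases e1 : Om S ≤ Opp 2 (Cen1 t)
  · refine (nA t (mA t ht ot) (ine ot) e1).trans fun g hg => ?_
    obtain ⟨k, hk, e2⟩ := (hS.of_le (le_cen_symm c.cen) le_top).frattini (mcen hg)
    exact H5.mem_of_eq (mul_mem (cnor (centralizer_anti inf_le_left) hk) (n1 e2)) (by simp)
  · rw [un _ _ p (p1 t (mA t ht ot) (ine ot) e1)]
    exact nr t (mA t ht ot) (ine ot)

end GC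

theorem na_any (hS : IsSylowOf 2 S H) (hT : IsSylowOf 2 T H) (na : ¬ S ≤ Cen S) : ¬ T ≤ Cen T := by
  obtain ⟨k, -, rfl⟩ := hT.exists_conj hS
  exact fun e => na (conj_cen k T ▸ conjS_mono k e)

theorem CI.zen (h : CI (⊤ : Subgroup G)) (hS : IsSylowOf 2 S ⊤) (na : ¬ S ≤ Cen S)
    {X : Type u} [Group X] [Finite X] {f : (⊤ : Subgroup G) →* X} (hf : Function.Surjective f)
    (hk : f.ker = B.subgroupOf ⊤) (hB : B ≤ S ⊓ Cen S) (hO : oddCore X = ⊥)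
    (h0 : pCoreIn 2 (⊤ : Subgroup X) = ⊥) (ab : H5.im f S ≤ Cen (H5.im f S)) : S ⊓ Cen S ≤ B := by
  have hQ : IsSylowOf 2 (H5.im f S) ⊤ := H5.im_self hf ▸ hS.im le_rfl
  have as : AS (H5.im f S) ⊤ := ⟨hQ, H5.isMulCommutative_of_forall fun x hx y hy =>
    GW.cen.1 (ab hx) y hy⟩
  have o : Oo (⊤ : Subgroup X) = ⊥ := (pPrimeCoreIn_top 2).trans hO
  have nZ : Nor (H5.im f S) ≤ Nor (H5.im f (S ⊓ Cen S)) := by
    rw [← H5.im_pre hf (Nor _)]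
    refine H5.im_le_normalizer ((H5.pre_normalizer_le _).trans ?_)
    rw [H5.pre_im_of_le hk (hB.trans inf_le_left) le_top]
    exact ninf le_rfl (ncen le_rfl)
  rw [← H5.im_eq_bot_iff hk le_top]
  by_contra e
  refine two_ne_top h0 (H5.isPGroup_im hS.isPGroup.to_inf_left) e (top_le_iff.1 (as.le_of
    (o.le.trans bot_le) (fun K hK => ?_) (inf_le_right.trans nZ)))
  have oK : Oo K = ⊥ := eq_bot_iff.2 (o ▸ hK.sn.pPrimeCoreIn_le)
  have cK : K ≤ Cen (CM K) := commutator_eq_bot_iff_le_centralizer.1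
    (eq_bot_iff.2 (oK ▸ com_CM le_rfl))
  have lf := as.lf' hK.pqs (as.nor_comp hK)
  obtain ⟨Y, -, r⟩ := lf.reg
  obtain ⟨k, hk1, k1⟩ : ∃ k ∈ K, k ∉ Nor (H5.im f S) := SetLike.not_le_iff_exists.1 fun e1 =>
    hK.pqs.not_isSolvable (solv_of_syl (as.sn hK.sn).syl inf_le_right (ninf e1 le_normalizer) le_rfl
      (H5.isSolvable_of_isPGroup hQ.isPGroup.to_inf_left))
  have k2 : ∀ c ∈ H5.im f S ⊓ CM K, c ∈ H5.im f (S ⊓ Cen S) := by
    rintro _ ⟨⟨c, hc, rfl⟩, m⟩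
    obtain ⟨T, h1, h2, h3⟩ := lift_syl hf (hQ.map_conj (g := k) (le_normalizer (mem_top k)))
      (hS.isPGroup.to_le (zpowers_le.2 hc)) (zpowers_le.2 (H5.coe_mem_pre.2 (H5.mem_of_eq
        (conj_mem_conjS (H5.mem_im_of_mem c.2 hc)) (by
          rw [GW.cen.1 (cK hk1) _ m, mul_inv_cancel_right]))))
    exact H5.mem_im_of_mem c.2 ⟨hc, h S T hS h1 (fun e1 => k1 (mem_normalizer_iff_conjS.2
      (h3.symm.trans (e1 ▸ rfl)))) ⟨hc, h2 (mem_zpowers _)⟩⟩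
  refine cnor (le_cen_symm fun z hz => ?_)
  obtain ⟨s, hs, c, hc, rfl⟩ := as.dec hK (H5.im_mono inf_le_left hz)
  by_cases s1 : s = 1
  · rw [s1, one_mul]
    exact le_cen_symm cK hc.2
  refine (na (le_trans ((H5.le_of_im_le_im hk le_top hB le_top fun y hy => ?_)) inf_le_right)).elim
  obtain ⟨s', hs', c', hc', rfl⟩ := as.dec hK hy
  refine mul_mem ?_ (k2 c' hc')
  by_cases s1' : s' = 1
  · exact s1' ▸ one_mem _
  obtain ⟨w, hw, rfl⟩ := r.tr s hs s' hs' s1 s1'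
  exact cmem (nZ (r.le hw)) ((mul_mem_cancel_right (k2 c hc)).1 hz)

theorem to_main (n : ℕ) : ∀ (G : Type u) [Group G] [Finite G] (H S : Subgroup G),
    Nat.card H ≤ n → CI H → IsSylowOf 2 S H → ¬ S ≤ Cen S → TO H := by
  induction n with
  | zero => exact fun G _ _ H S hn => absurd Nat.card_pos (not_lt.2 hn)
  | succ n ih =>
  suffices k : ∀ (X : Type u) [Group X] [Finite X] (S T : Subgroup X),
      Nat.card (⊤ : Subgroup X) ≤ n + 1 → CI (⊤ : Subgroup X) → Oo (⊤ : Subgroup X) = ⊥ →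
      IsSylowOf 2 S ⊤ → IsSylowOf 2 T ⊤ → ¬ S ≤ Cen S → S ⊓ T ≤ pCoreIn 2 ⊤ ∨ T ≤ S by
    intro G _ _ H S₀ hn h hS₀ na S T hS hT
    obtain ⟨X, _, _, f, hf, hk⟩ := exists_quo (lOo H)
    have e := H5.im_self hf
    refine (k X (H5.im f S) (H5.im f T) (e ▸ (Nat.le_of_dvd Nat.card_pos (H5.card_im_dvd H)).trans hn)
      (h.im hf) (e ▸ H5.pPrimeCoreIn_im_eq_bot hf hk le_rfl) (e ▸ hS.im le_rfl) (e ▸ hT.im le_rfl)
      fun e1 => na_any hS₀ hS na (commutator_eq_bot_iff_le_centralizer.1 (eq_bot_iff.2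
        ((le_inf (com_l le_normalizer) ((H5.commutator_le_iff_im hk hS.le hS.le).2 e1)).trans
          (two_odd hS.isPGroup (odd_Oo H)).le)))).imp (fun e1 => ?_)
      (H5.im_le_im_iff hk (Oo_le H) hT.le hS.le).1
    rw [← pre_pCoreIn_eq_Opp hk le_rfl, ← H5.im_le_iff (inf_le_left.trans hS.le), e]
    exact (H5.im_inf_le S T).trans e1
  intro G _ _ S T hn h hO hS hT na
  have lt : ∀ L : Subgroup G, L ≠ ⊤ → Nat.card L ≤ n := fun L e =>
    Nat.le_of_lt_succ ((H5.card_lt_of_lt (lt_top_iff_ne_top.2 e)).trans_le hn)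
  have nL := le_normalizer_pGenIn 2 (⊤ : Subgroup G)
  by_cases hL : pGenIn 2 (⊤ : Subgroup G) = ⊤
  swap
  · have a := le_pGenIn le_top hS.isPGroup
    have o : Oo (pGenIn 2 (⊤ : Subgroup G)) = ⊥ :=
      eq_bot_iff.2 (hO ▸ GW.le_Oo le_top (nL.trans (nOo _)) (odd_Oo _))
    have := ih G _ S (lt _ hL) (h.of_le hS a le_top) (hS.of_le a le_top) na S T (hS.of_le a le_top)
      (hT.of_le (le_pGenIn le_top hT.isPGroup) le_top)
    rw [Opp_eq_pCoreIn o, o, sup_bot_eq] at this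
    exact this.imp_left fun e => e.trans (le_pCoreIn le_top (nL.trans (nOp 2 _))
      (isPGroup_pCoreIn 2 _))
  have gen : ∀ N : Subgroup G, N.Normal → S ≤ N → N = ⊤ := fun N hN e =>
    top_le_iff.1 (hL.ge.trans (pGenIn_le_iff.2 fun x _ ⟨k, hk⟩ => by
      obtain ⟨g, -, e1⟩ := hS.exists_conj_le (isPGroup_zpowers_of_pow hk) le_top
      simpa [mul_assoc] using hN.conj_mem _ (e (e1 (conj_mem_conjS (mem_zpowers x)))) g⁻¹))
  have nB : ⊤ ≤ Nor (pCoreIn 2 (⊤ : Subgroup G)) := le_normalizer.trans (nOp 2 _)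
  have BT : ∀ T, IsSylowOf 2 T ⊤ → pCoreIn 2 (⊤ : Subgroup G) ≤ T := fun T hT =>
    hT.le_of_le_normalizer (isPGroup_pCoreIn 2 _) le_top (le_top.trans nB)
  have hO' : oddCore G = ⊥ := (pPrimeCoreIn_top 2).symm.trans hO
  by_cases hB : S ≤ pCoreIn 2 ⊤
  · exact Or.inl (inf_le_left.trans hB)
  by_cases h0 : pCoreIn 2 (⊤ : Subgroup G) = ⊥
  · have c : GC S := ⟨hS, fun x hx => h.dih hS h0 hx, na⟩
    obtain ⟨M, se⟩ := c.glob h hO' h0 gen fun a ha a1 => ih G _ S (lt _ fun e =>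
      two_ne_top h0 (two_zp (o2 (c.sq ha) a1)) (zpowers_ne_bot.2 a1) (top_le_iff.1 (nzp e.ge)))
      (h.of_le hS (c.le_c1 ha) le_top) (c.sylc ha) na
    obtain ⟨P, rfl⟩ := hS.exists_sylow_top
    obtain ⟨Q, rfl⟩ := hT.exists_sylow_top
    refine or_iff_not_imp_left.2 fun e => ?_
    obtain ⟨a, ha, a1⟩ := SetLike.not_le_iff_exists.1 e
    rw [Hz.ti_of_se hO' se (fun e1 : a = 1 => a1 (e1 ▸ one_mem _)) ha.1 ha.2]
  have BZ : pCoreIn 2 (⊤ : Subgroup G) ≤ S ⊓ Cen S := le_inf (BT S hS) (by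
    have := h.B_le hS (by rwa [Opp_eq_pCoreIn hO])
    rwa [Opp_eq_pCoreIn hO, inf_eq_right.2 (BT S hS)] at this)
  have hc := gen _ (normal_of_top_le_normalizer (ncen nB)) (le_cen_symm (BZ.trans inf_le_right))
  obtain ⟨X, _, _, f, hf, hk⟩ := exists_quo nB
  have e := H5.im_self hf
  have o := core_central hf hk (isPGroup_pCoreIn 2 _) le_top hc.ge hO
  have o2 : pCoreIn 2 (⊤ : Subgroup X) = ⊥ := e ▸ H5.pCoreIn_im_eq_bot hf hk le_rfl
  have hQ : IsSylowOf 2 (H5.im f S) ⊤ := e ▸ hS.im le_rfl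
  by_cases ab : H5.im f S ≤ Cen (H5.im f S)
  · exact (em (S = T)).symm.imp (fun e1 => (le_inf inf_le_left (h S T hS hT e1)).trans
      (h.zen hS na hf hk BZ o o2 ab)) Eq.ge
  have o' := (pPrimeCoreIn_top 2).trans o
  have := ih X ⊤ _ (Nat.le_of_lt_succ ((e ▸ H5.card_im_lt hk le_rfl (by rwa [top_inf_eq])).trans_le hn))
    (h.im hf) hQ ab _ _ hQ (e ▸ hT.im le_rfl)
  rw [Opp_eq_pCoreIn o', o2, show Oo (⊤ : Subgroup X) = ⊥ from o', sup_bot_eq] at this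
  exact this.imp (fun e1 => (H5.im_eq_bot_iff hk le_top).1 (eq_bot_iff.2
    ((H5.im_inf_le S T).trans e1))) (H5.le_of_im_le_im hk le_top (BT S hS) le_top)

theorem CI.to (h : CI H) (hS : IsSylowOf 2 S H) (na : ¬ S ≤ Cen S) : TO H :=
  to_main _ G H S le_rfl h hS na

theorem ci_of (h : ∀ S T : Sylow 2 G, S ≠ T → ∃ U : Sylow 2 G, (S : Subgroup G) ⊓ (T : Subgroup G) ≤
    (center (U : Subgroup G)).map (U : Subgroup G).subtype) : CI (⊤ : Subgroup G) := by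
  intro S T hS hT ne
  obtain ⟨S, rfl⟩ := hS.exists_sylow_top
  obtain ⟨T, rfl⟩ := hT.exists_sylow_top
  have := ((Cfsg.Agent.S3183.result h S).2 T fun e => ne (e ▸ rfl)).trans inf_le_left
  rw [map_center_subtype] at this
  exact this.trans inf_le_right

theorem CI.ti [IsSimpleGroup G] (hG : ¬ IsMulCommutative G) (h : CI (⊤ : Subgroup G))
    (hS : IsSylowOf 2 S ⊤) (na : ¬ S ≤ Cen S) : Hz.TI G := by
  intro x y a a1 hx hy
  have o : Oo (⊤ : Subgroup G) = ⊥ := (pPrimeCoreIn_top 2).trans (oddCore_simple hG)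
  have := h.to hS na _ _ (Hz.TT_syl x) (Hz.TT_syl y)
  rw [Opp_eq_pCoreIn o, o, sup_bot_eq] at this
  refine Sylow.ext ((Hz.TT_syl y).eq_of_le x.isPGroup' (this.resolve_left fun e => ?_) le_top)
  rcases (normal_of_top_le_normalizer (le_normalizer.trans (nOp 2 (⊤ : Subgroup G)))).eq_bot_or_eq_top
    with e1 | e1
  · exact a1 (mem_bot.1 (e1 ▸ e ⟨hx, hy⟩))
  · have := H5.isSolvable_of_isPGroup (e1 ▸ isPGroup_pCoreIn 2 (⊤ : Subgroup G))
    exact hG ⟨⟨(IsSimpleGroup.comm_iff_isSolvable).2 (Group.isSolvable_of_surjective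
      (f := (⊤ : Subgroup G).subtype) fun g => ⟨⟨g, mem_top g⟩, rfl⟩)⟩⟩

end W
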