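import Cfsg.Agent.W.Gen
import Cfsg.Agent.Ly.Red
import Cfsg.Agent.Ly.Model

/-! Groups with a Sylow 2-subgroup of type `U₃(2ⁿ)`, `n ≥ 3`. -/

set_option autoImplicit false
set_option linter.unusedSectionVars false
set_option linter.unusedVariables false

namespace W

open Cfsg Subgroup FT H4 GW
open H5 (IsSylowOf im pre)

universe u

/-- properties of a Sylow 2-subgroup `S` of `U₃(2ⁿ)` with centre `Z` -/
structure U3T {G : Type*} [Group G] (S Z : Subgroup G) : Prop where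
  mem : ∀ x, x ∈ Z ↔ x ∈ S ∧ x * x = 1
  cen : ∀ z ∈ Z, ∀ x ∈ S, x * z = z * x
  sq : ∀ x ∈ S, x * x ∈ Z
  ca : ∀ x ∈ S, x ∉ Z → ∀ y ∈ S, ∀ w ∈ S, y * x = x * y → w * x = x * w → y * w = w * y
  rt : ∀ x ∈ S, x ∉ Z → ∀ z ∈ Z, ∃ a ∈ S, a * x = x * a ∧ a * a = z
  eight : 8 ≤ Nat.card Z
  card : Nat.card S = Nat.card Z ^ 3

section
variable {G : Type*} [Group G] {S Z : Subgroup G}

theorem U3T.le (h : U3T S Z) : Z ≤ S := fun x hx => ((h.mem x).1 hx).1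

theorem U3T.zz (h : U3T S Z) {z : G} (hz : z ∈ Z) : z * z = 1 := ((h.mem z).1 hz).2

theorem U3T.equiv {X : Type*} [Group X] (h : U3T S Z) {S' : Subgroup X} (e : S ≃* S') :
    ∃ Z', U3T S' Z' ∧ Nat.card Z' = Nat.card Z := by
  let f : S →* X := S'.subtype.comp e.toMonoidHom
  have hf : Function.Injective f := S'.subtype_injective.comp e.injective
  have su : ∀ y ∈ S', ∃ x : S, f x = y := fun y hy =>
    ⟨e.symm ⟨y, hy⟩, congrArg Subtype.val (e.apply_symm_apply _)⟩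
  have mS : ∀ x : S, f x ∈ S' := fun x => (e x).2
  have mZ : ∀ x : S, f x ∈ (Z.subgroupOf S).map f ↔ (x : G) ∈ Z := fun x => mem_map_iff_mem hf
  have cm : ∀ x y : S, f x * f y = f y * f x ↔ (x : G) * y = y * x := fun x y => by
    rw [← map_mul, ← map_mul, hf.eq_iff, Subtype.ext_iff]; rfl
  have c : Nat.card ((Z.subgroupOf S).map f) = Nat.card Z := by
    rw [card_map_of_injective hf, Nat.card_congr (subgroupOfEquivOfLe h.le).toEquiv]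
  refine ⟨_, ⟨fun x => ⟨?_, fun hx => ?_⟩, ?_, fun x hx => ?_, fun x hx x1 y hy w hw => ?_,
    fun x hx x1 => ?_, c ▸ h.eight, by rw [c, ← h.card, Nat.card_congr e.toEquiv]⟩, c⟩
  · rintro ⟨z, hz, rfl⟩
    exact ⟨mS z, by rw [← map_mul, show z * z = 1 from Subtype.ext (h.zz hz), map_one]⟩
  · obtain ⟨y, rfl⟩ := su x hx.1
    exact (mZ y).2 ((h.mem _).2 ⟨y.2, congrArg Subtype.val (hf (a₁ := y * y) (a₂ := 1)
      (by rw [map_mul, hx.2, map_one]))⟩)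
  · rintro _ ⟨z, hz, rfl⟩ x hx
    obtain ⟨y, rfl⟩ := su x hx
    exact (cm _ _).2 (h.cen z hz y y.2)
  · obtain ⟨y, rfl⟩ := su x hx
    rw [← map_mul, mZ]
    exact h.sq y y.2
  · obtain ⟨x, rfl⟩ := su x hx
    obtain ⟨y, rfl⟩ := su y hy
    obtain ⟨w, rfl⟩ := su w hw
    simp only [cm]
    exact h.ca x x.2 (mt (mZ x).2 x1) y y.2 w w.2
  · obtain ⟨x, rfl⟩ := su x hx
    rintro _ ⟨z, hz, rfl⟩
    obtain ⟨a, ha, h1, h2⟩ := h.rt x x.2 (mt (mZ x).2 x1) z hz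
    exact ⟨f ⟨a, ha⟩, mS _, (cm _ _).2 h1, by rw [← map_mul]; exact congrArg f (Subtype.ext h2)⟩

theorem u3t_model {F : Type*} [Field F] [Fintype F] (H : H2.Herm F) {n : ℕ} (hn : 3 ≤ n)
    (hF : Fintype.card F = 4 ^ n) :
    U3T (⊤ : Subgroup (H2.U3 H)) (center _) ∧ Nat.card (center (H2.U3 H)) = 2 ^ n := by
  have hK := H2.card_K_eq H hF
  have h2 := H.two
  have c : Nat.card (center (H2.U3 H)) = 2 ^ n := by
    rw [Ly.card_U3 _ (· = 0) fun _ => H2.U3.mem_center_iff', hK]; simp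
  refine ⟨⟨fun x => ?_, fun z hz x _ => mem_center_iff.mp hz x, fun x _ => ?_,
    fun x _ hx y _ w _ e1 e2 => ?_, fun x _ hx z hz => ?_, ?_, ?_⟩, c⟩
  · rw [H2.U3.mem_center_iff', ← pow_two, H2.U3.sq_eq_one_iff]; simp
  · rw [H2.U3.mem_center_iff', ← pow_two, H2.U3.sq_a]
  · rw [H2.U3.mem_center_iff'] at hx
    have e3 := congrArg H2.U3.b e1
    have e4 := congrArg H2.U3.b e2
    simp only [H2.U3.mul_b] at e3 e4
    refine H2.U3.ext (add_comm _ _) ?_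
    simp only [H2.U3.mul_b]
    have : x.a * (H.σ y.a * w.a) = x.a * (H.σ w.a * y.a) := by grind
    rw [mul_left_cancel₀ hx this]; ring
  · rw [H2.U3.mem_center_iff'] at hx hz
    have h1 : H.σ x.a ≠ 0 := by simpa using hx
    have e := z.h
    rw [hz, zero_mul] at e
    obtain ⟨k, hk⟩ := H.exists_sqrt (z.b / (x.a * H.σ x.a))
    have e1 : H.σ k = k := H.sq_inj (by
      rw [← map_mul, hk, map_div₀, map_mul, H.invol, mul_comm, show H.σ z.b = z.b by grind])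
    refine ⟨H2.U3.sec H (k * x.a), trivial, H2.U3.ext (add_comm _ _) ?_, H2.U3.ext ?_ ?_⟩
    · simp only [H2.U3.mul_b, H2.U3.sec_a, map_mul, e1]; ring
    · rw [← pow_two, H2.U3.sq_a, hz]
    · rw [← pow_two, H2.U3.sq_b, H2.U3.sec_a, map_mul, e1, mul_mul_mul_comm, hk,
        div_mul_cancel₀ _ (mul_ne_zero hx h1)]
  · rw [c]; exact Nat.pow_le_pow_right two_pos hn
  · rw [c, Ly.card_U3 ⊤ (fun _ => True) (by simp), hK, Nat.card_subtype_true,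
      Nat.card_eq_fintype_card, hF, show 4 = 2 * 2 from rfl, mul_pow]; ring

theorem exists_u3t {F : Type*} [Field F] [Fintype F] {n : ℕ} (hn : 3 ≤ n)
    (hF : Fintype.card F = 4 ^ n) (P : Sylow 2 (PSU 3 F (2 ^ n)))
    (e : S ≃* (P : Subgroup (PSU 3 F (2 ^ n)))) : ∃ Z, U3T S Z ∧ Nat.card Z = 2 ^ n := by
  obtain ⟨H, hH⟩ := H2.exists_herm (F := F) (n := n) (by omega) hF
  obtain ⟨f⟩ := H2.U3.nonempty_equiv_sylow_psu hH P
  obtain ⟨h1, h2⟩ := u3t_model H hn hF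
  exact h2 ▸ h1.equiv (topEquiv.trans (e.trans f).symm)

end

variable {G : Type u} [Group G] [Finite G] {S Z H Q : Subgroup G}

theorem exists_ne_two (h : 2 < Nat.card H) (a : G) : ∃ b ∈ H, b ≠ 1 ∧ b ≠ a := by
  by_contra e
  push Not at e
  have : (H : Set G) ⊆ {1, a} := fun b hb => or_iff_not_imp_left.2 (e b hb)
  have h1 := (Set.ncard_le_ncard this).trans (Set.ncard_insert_le _ _)
  rw [Set.ncard_singleton, ← Nat.card_coe_set_eq] at h1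
  exact absurd h (not_lt.2 h1)

theorem solv_of_sq {K : Subgroup G} (hK : K ≤ H) (hn : H ≤ Nor K) (hs : Group.IsSolvable K)
    (h : ∀ g ∈ H, g * g ∈ K) : Group.IsSolvable H := by
  obtain ⟨X, _, _, f, hf, hk⟩ := exists_quo hn
  refine H5.isSolvable_of_im hk le_rfl (H5.isSolvable_of_isPGroup (p := 2) ?_)
    (isSolvable_of_le inf_le_right hs)
  rintro ⟨_, x, hx, rfl⟩
  refine ⟨1, Subtype.ext ?_⟩
  rw [pow_one, pow_two, coe_mul, ← map_mul]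
  exact (H5.map_eq_one_iff_of_ker hk).2 (h x hx)

namespace U3T

theorem ex (h : U3T S Z) : ∃ x ∈ S, x ∉ Z := by
  by_contra e
  push Not at e
  have h1 := h.card
  have h2 := h.eight
  rw [le_antisymm e h.le] at h1
  have : Nat.card Z ^ 1 < Nat.card Z ^ 3 := Nat.pow_lt_pow_right (by omega) (by norm_num)
  rw [pow_one] at this
  omega

theorem sq_ne (h : U3T S Z) {x : G} (hx : x ∈ S) (hx' : x ∉ Z) : x * x ≠ 1 :=
  fun e => hx' ((h.mem x).2 ⟨hx, e⟩)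

theorem le_c1 (h : U3T S Z) {z : G} (hz : z ∈ Z) : S ≤ Cen1 z := fun x hx => c1.2 (h.cen z hz x hx)

theorem any (h : U3T S Z) (hS : IsSylowOf 2 S ⊤) {D : Subgroup G} (hD : IsPGroup 2 D) :
    ∃ S' Z', D ≤ S' ∧ IsSylowOf 2 S' ⊤ ∧ U3T S' Z' ∧ Nat.card Z' = Nat.card Z := by
  obtain ⟨S', h1, h2⟩ := H5.exists_isSylowOf_ge hD le_top
  obtain ⟨k, -, rfl⟩ := hS.exists_conj h1
  obtain ⟨Z', h3⟩ := h.equiv (conjSEquiv k S)
  exact ⟨_, Z', h2, h1, h3⟩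

theorem nor_le (h : U3T S Z) (hS : IsSylowOf 2 S ⊤) {D : Subgroup G} (hD : IsPGroup 2 D)
    (hZ : Z ≤ D) : Nor D ≤ Nor Z := fun g hg => mnor fun z hz => by
  obtain ⟨S', Z', h1, -, h2, h3⟩ := h.any hS hD
  rw [eq_of_le_of_card_ge (fun z hz => (h2.mem z).2 ⟨h1 (hZ hz), h.zz hz⟩) h3.le]
  exact (h2.mem _).2 ⟨h1 (cmem hg (hZ hz)), csq (h.zz hz)⟩

theorem im (h : U3T S Z) {X : Type*} [Group X] {f : H →* X} (hk : f.ker = (Oo H).subgroupOf H)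
    (hS : IsSylowOf 2 S H) : ∃ Z', U3T (im f S) Z' ∧ Nat.card Z' = Nat.card Z := by
  have : Function.Injective (f.subgroupMap (S.subgroupOf H)) := (injective_iff_map_eq_one _).2
    fun x e => Subtype.ext (Subtype.ext (eq1 (two_odd hS.isPGroup (odd_Oo H)) x.2
      ((H5.map_eq_one_iff_of_ker hk).1 (congrArg Subtype.val e))))
  exact h.equiv ((subgroupOfEquivOfLe hS.le).symm.trans
    (MulEquiv.ofBijective _ ⟨this, f.subgroupMap_surjective _⟩))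

theorem pl_cen (h : U3T S Z) (hS : IsSylowOf 2 S ⊤) {x : G} (hx : x ∈ S) (hx' : x ∉ Z) :
    PL (Cen1 x) := by
  obtain ⟨D, hD, xD⟩ := H5.exists_isSylowOf_ge (hS.isPGroup.to_le (zpowers_le.2 hx))
    (zpowers_le.2 (c1.2 rfl))
  obtain ⟨S', Z', h1, h2, h3, -⟩ := h.any hS hD.isPGroup
  have m := h1 (xD (mem_zpowers x))
  have m' : x ∉ Z' := fun e => h.sq_ne hx hx' (h3.zz e)
  have e : S' ⊓ Cen1 x = D := hD.eq_of_le h2.isPGroup.to_inf_left (le_inf h1 hD.le) inf_le_right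
  have as : AS D (Cen1 x) := ⟨hD, H5.isMulCommutative_of_forall fun a ha b hb =>
    h3.ca x m m' a (h1 ha) b (h1 hb) (c1.1 (hD.le ha)) (c1.1 (hD.le hb))⟩
  refine as.pl fun K hK => ?_
  obtain ⟨t, ht, t1⟩ := as.exK hK
  obtain ⟨a, ha, e1, rfl⟩ := h3.rt x m m' t ((h3.mem t).2 ⟨h1 ht.1, as.sqK hK ht⟩)
  obtain ⟨s, hs, c, hc, rfl⟩ := as.dec hK (e.le ⟨ha, c1.2 e1⟩)
  refine t1 (eq1 (as.inf_B hK) ht (H5.mem_of_eq (mul_mem hc.2 hc.2) ?_))
  rw [mul_assoc, ← mul_assoc c s, as.cm hc.1 hs.1, mul_assoc, ← mul_assoc, as.sqK hK hs, one_mul]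

theorem central (h : U3T S Z) (hS : IsSylowOf 2 S ⊤) (hO : Oo (⊤ : Subgroup G) = ⊥)
    (hc : ⊤ ≤ Cen Z) : Nor S = ⊤ := by
  obtain ⟨X, _, _, f, hf, hk⟩ := exists_quo (cnor hc)
  have cz : ∀ z ∈ Z, ∀ g, g * z = z * g := fun z hz g => GW.cen.1 (hc (mem_top g)) z hz
  let φ : G →* X := f.comp topEquiv.symm.toMonoidHom
  have one : ∀ x, φ x = 1 ↔ x ∈ Z := fun x => H5.map_eq_one_iff_of_ker hk
  have eqv : ∀ x y, φ x = φ y → ∃ z ∈ Z, x = z * y := fun x y e =>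
    ⟨x * y⁻¹, (one _).1 (by rw [map_mul, map_inv, e, mul_inv_cancel]), by simp⟩
  have mT : ∀ x ∈ S, φ x ∈ H5.im f S := fun x hx => H5.mem_im_of_mem _ hx
  have su : ∀ y ∈ H5.im f S, ∃ x ∈ S, φ x = y := fun y hy => by
    obtain ⟨x, hx, rfl⟩ := H5.mem_im.1 hy
    exact ⟨x, hx, rfl⟩
  have sq : ∀ y ∈ H5.im f S, y * y = 1 := fun y hy => by
    obtain ⟨x, hx, rfl⟩ := su y hy
    rw [← map_mul, one]; exact h.sq x hx
  have cm : ∀ a ∈ H5.im f S, ∀ b ∈ H5.im f S, a * b = b * a := fun a ha b hb => by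
    rw [← inv_eq_of_mul_eq_one_right (sq _ (mul_mem ha hb)), mul_inv_rev,
      inv_eq_of_mul_eq_one_right (sq a ha), inv_eq_of_mul_eq_one_right (sq b hb)]
  have as : AS (H5.im f S) ⊤ := ⟨H5.im_self hf ▸ hS.im le_rfl, H5.isMulCommutative_of_forall cm⟩
  have o : Oo (⊤ : Subgroup X) = ⊥ := (pPrimeCoreIn_top 2).trans
    (core_central hf hk (hS.isPGroup.to_le h.le) le_top hc hO)
  suffices e : ⊤ ≤ Nor (H5.im f S) by
    have := H5.le_normalizer_pre (f := f) le_rfl (le_top.trans e)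
    rwa [H5.pre_im_of_le hk h.le le_top, top_le_iff] at this
  refine as.le_of (o.le.trans bot_le) (fun K hK => ?_) inf_le_right
  exfalso
  have lf := as.lf' hK.pqs (as.nor_comp hK)
  obtain ⟨Y, -, r⟩ := lf.reg
  have tr : ∀ x ∈ S, φ x ∈ K → x ∉ Z → ∀ y ∈ S, φ y ∈ K → y ∉ Z → x * x = y * y ∧
      ∀ b ∈ S, φ b ∈ CM K → b * x * b⁻¹ * x⁻¹ = b * y * b⁻¹ * y⁻¹ := by
    intro x hx xK x1 y hy yK y1
    obtain ⟨w, hw, e⟩ := r.tr _ ⟨mT x hx, xK⟩ _ ⟨mT y hy, yK⟩ (mt (one _).1 x1) (mt (one _).1 y1)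
    obtain ⟨⟨g, hg⟩, rfl⟩ := hf w
    obtain ⟨z, hz, e1⟩ := eqv (g * x * g⁻¹) y (by rw [map_mul, map_mul, map_inv]; exact e)
    refine ⟨?_, fun b hb bK => ?_⟩
    · have := cz _ (h.sq x hx) g
      calc x * x = g * x * g⁻¹ * (g * x * g⁻¹) := by rw [conj_mul, this]; group
        _ = _ := by rw [e1, mul_assoc, ← mul_assoc y, cz z hz y, mul_assoc, ← mul_assoc, h.zz hz,
          one_mul]
    · obtain ⟨v, hv, e2⟩ := eqv (g * b * g⁻¹) b (by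
        rw [map_mul, map_mul, map_inv, mul_inv_eq_iff_eq_mul]
        exact GW.cen.1 (r.cen hw) _ ⟨mT b hb, bK⟩)
      have m : b * x * b⁻¹ * x⁻¹ ∈ Z := (one _).1 (by
        simp only [map_mul, map_inv]; rw [cm _ (mT b hb) _ (mT x hx)]; group)
      calc b * x * b⁻¹ * x⁻¹ = g * (b * x * b⁻¹ * x⁻¹) * g⁻¹ := by rw [cz _ m g]; group
        _ = g * b * g⁻¹ * (g * x * g⁻¹) * (g * b * g⁻¹)⁻¹ * (g * x * g⁻¹)⁻¹ := by group
        _ = v * (b * z * y * b⁻¹ * v⁻¹ * y⁻¹) * z⁻¹ := by rw [e1, e2]; group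
        _ = v * (z * (b * y * b⁻¹ * y⁻¹) * v⁻¹) * z⁻¹ := by
          rw [cz z hz b, mul_assoc _ v⁻¹, ← cz _ (inv_mem hv)]; group
        _ = _ := by rw [cz _ (inv_mem hv), ← cz z hz]; group
  obtain ⟨s, hs, s1⟩ := as.exK hK
  obtain ⟨s', hs', s1', ne⟩ := exists_ne_two (lt_of_lt_of_le (by norm_num) lf.four) s
  obtain ⟨x, hx, rfl⟩ := su s hs.1
  obtain ⟨y, hy, rfl⟩ := su s' hs'.1
  have x1 := mt (one _).2 s1
  have y1 := mt (one _).2 s1'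
  have xy1 : x * y ∉ Z := fun e => ne (by
    rw [← one, map_mul] at e
    rw [← inv_eq_of_mul_eq_one_right e, inv_eq_of_mul_eq_one_right (sq _ hs.1)])
  obtain ⟨a1, a2⟩ := tr x hx hs.2 x1 y hy hs'.2 y1
  obtain ⟨b1, b2⟩ := tr x hx hs.2 x1 _ (mul_mem hx hy) (map_mul φ x y ▸ mul_mem hs.2 hs'.2) xy1
  have hB : ∀ b ∈ S, φ b ∈ CM K → b ∈ Z := fun b hb bK => by
    by_contra b1'
    have m : b * y * b⁻¹ * y⁻¹ ∈ Z := (one _).1 (by
      simp only [map_mul, map_inv]; rw [cm _ (mT b hb) _ (mT y hy)]; group)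
    have e1 : b * y * b⁻¹ * y⁻¹ = 1 := mul_left_cancel (a := b * x * b⁻¹ * x⁻¹) (by
      calc _ = b * x * b⁻¹ * (x⁻¹ * (b * y * b⁻¹ * y⁻¹)) := by group
        _ = b * (x * y) * b⁻¹ * (x * y)⁻¹ := by rw [cz _ m]; group
        _ = _ := by rw [← b2 b hb bK, mul_one])
    have e2 := (a2 b hb bK).trans e1
    rw [mul_inv_eq_one, mul_inv_eq_iff_eq_mul] at e1 e2
    have e3 := h.ca b hb b1' x hx y hy e2.symm e1.symm
    refine h.sq_ne hx x1 (b1.trans ?_)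
    rw [mul_assoc, ← mul_assoc y, ← e3, mul_assoc, ← mul_assoc, ← a1, h.zz (h.sq x hx)]
  obtain ⟨z, hz, z1, ne'⟩ := exists_ne_two (lt_of_lt_of_le (by norm_num) h.eight) (x * x)
  obtain ⟨a, ha, -, rfl⟩ := h.rt x hx x1 z hz
  obtain ⟨s, hs2, c, hc2, e⟩ := as.dec hK (mT a ha)
  obtain ⟨b, hb, rfl⟩ := su c hc2.1
  rw [(one b).2 (hB b hb hc2.2), mul_one] at e
  exact ne' (tr x hx hs.2 x1 a ha (e ▸ hs2.2) fun m => z1 (h.zz m)).1.symm

theorem r3 (h : U3T S Z) {X : Type*} [Group X] [Finite X] {f : (⊤ : Subgroup G) →* X}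
    (hk : f.ker = Q.subgroupOf ⊤) (QZ : Q ≤ Z) {t : G} (ht : t ∈ S) :
    H5.Dich.R3 (Cen1 (f ⟨t, mem_top t⟩)) := by
  obtain ⟨x, hx, x1, e⟩ : ∃ x ∈ S, x ∉ Z ∧ t * x = x * t := by
    by_cases c : t ∈ Z
    · obtain ⟨x, hx, x1⟩ := h.ex
      exact ⟨x, hx, x1, (h.cen t c x hx).symm⟩
    · exact ⟨t, ht, c, rfl⟩
  let B : Subgroup G :=
    { carrier := {a | a ∈ S ⊓ Cen1 x ∧ a * a ∈ Q}
      one_mem' := ⟨one_mem _, by simp⟩
      inv_mem' := fun ha => ⟨inv_mem ha.1, by rw [← mul_inv_rev]; exact inv_mem ha.2⟩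
      mul_mem' := fun {a b} ha hb => ⟨mul_mem ha.1 hb.1, H5.mem_of_eq (mul_mem ha.2 hb.2) (by
        rw [mul_assoc, mul_assoc, ← mul_assoc a b b, ← mul_assoc b a b,
          h.ca x hx x1 a ha.1.1 b hb.1.1 (c1.1 ha.1.2) (c1.1 hb.1.2)])⟩ }
  have cm : ∀ a ∈ B, ∀ b ∈ S ⊓ Cen1 x, a * b = b * a := fun a ha b hb =>
    h.ca x hx x1 a ha.1.1 b hb.1 (c1.1 ha.1.2) (c1.1 hb.2)
  refine ⟨H5.im f B, le_trans (H5.im_mono fun a ha => c1.2 (cm a ha t ⟨ht, c1.2 e⟩))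
    (H5.im_centralizer_singleton_le _), ⟨H5.isMulCommutative_im
      (H5.isMulCommutative_of_forall fun a ha b hb => cm a ha b hb.1), ?_⟩, ?_⟩
  · rintro _ ⟨a, ha, rfl⟩
    rw [← map_pow, pow_two]
    exact (H5.map_eq_one_iff_of_ker hk).2 ha.2
  choose r r1 r2 r3 using fun q : Q => h.rt x hx x1 q (QZ q.2)
  have sq : ∀ (q : Q) (z : Z), r q * z * (r q * z) = q := fun q z => by
    rw [mul_assoc, ← mul_assoc z.1, ← h.cen z z.2 _ (r1 q), mul_assoc, h.zz z.2, mul_one, r3]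
  have := Nat.card_le_card_of_injective (fun p : Q × Z => (⟨r p.1 * p.2,
    ⟨mul_mem (r1 _) (h.le p.2.2), mul_mem (c1.2 (r2 _)) (c1.2 (h.cen _ p.2.2 x hx).symm)⟩,
    (sq _ _).symm ▸ p.1.2⟩ : B)) fun p q e => by
      have e1 : r p.1 * p.2 = r q.1 * q.2 := congrArg Subtype.val e
      have e2 : p.1 = q.1 := Subtype.ext (by rw [← sq p.1 p.2, e1, sq])
      rw [e2] at e1
      exact Prod.ext e2 (Subtype.ext (mul_left_cancel e1))
  rw [Nat.card_prod, H5.card_eq_card_im_mul (X := B) hk le_top, mul_comm] at this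
  exact h.eight.trans (Nat.le_of_mul_le_mul_right (this.trans
    (Nat.mul_le_mul_left _ (card_le_of_le inf_le_right))) Nat.card_pos)

theorem main (h : U3T S Z) (hS : IsSylowOf 2 S ⊤) (hO : Oo (⊤ : Subgroup G) = ⊥) (QZ : Q ≤ Z)
    (hc : ⊤ ≤ Cen Q) {X : Type u} [Group X] [Finite X] {f : (⊤ : Subgroup G) →* X}
    (hf : Function.Surjective f) (hk : f.ker = Q.subgroupOf ⊤) {z : G} (hz : z ∈ Z) (z1 : z ∉ Q)
    (ih : ∀ t ∈ Z, t ∉ Q → PL (Cen1 t)) :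
    Nor S = ⊤ ∨ IsStronglyEmbedded (H5.im f (Nor Z)) := by
  have tQ := hS.isPGroup.to_le (QZ.trans h.le)
  by_cases hZ : Nor Z = ⊤
  · refine Or.inl (top_le_iff.1 ((ncen hZ.ge).trans (PL.nor (plength1S (fun g hg =>
      c1.2 (GW.cen.1 hg z hz)) (ih z hz z1)) (eq_bot_iff.2 (hO ▸ GW.le_Oo le_top
        ((ncen hZ.ge).trans (nOo _)) (odd_Oo _))) (hS.of_le ?_ le_top))))
    exact fun x hx => GW.cen.2 fun z hz => h.cen z hz x hx
  right
  have hT : IsSylowOf 2 (H5.im f S) ⊤ := H5.im_self hf ▸ hS.im le_rfl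
  have cq : ∀ q ∈ Q, ∀ g, g * q = q * g := fun q hq g => GW.cen.1 (hc (mem_top g)) q hq
  have one : ∀ x : (⊤ : Subgroup G), f x = 1 ↔ (x : G) ∈ Q := fun x => H5.map_eq_one_iff_of_ker hk
  have pl : ∀ t : (⊤ : Subgroup G), (t : G) ∈ S → f t ≠ 1 → PL (Cen1 (t : G)) := fun t ht t1 =>
    (em _).elim (ih t · (mt (one t).2 t1)) (h.pl_cen hS ht)
  have k : ∀ t : (⊤ : Subgroup G), ∀ g ∈ pre f (Cen1 (f t)), ∃ q ∈ Q, g * t = q * t * g :=
    fun t g hg => ⟨g * t * g⁻¹ * (t : G)⁻¹, (one (⟨g, mem_top g⟩ * t * (⟨g, mem_top g⟩)⁻¹ * t⁻¹)).1 (by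
      rw [map_mul, map_mul, map_mul, map_inv, map_inv, c1.1 (H5.mem_pre.1 hg).2]; group), by group⟩
  have k1 : ∀ t : (⊤ : Subgroup G), Cen1 (t : G) ≤ pre f (Cen1 (f t)) := fun t =>
    (H5.im_le_iff le_top).1 (H5.im_centralizer_singleton_le t.2)
  have k2 : ∀ t : (⊤ : Subgroup G), pre f (Cen1 (f t)) ≤ Nor (Cen1 (t : G)) := fun t g hg =>
    mnor fun c hc => c1.2 (by
      obtain ⟨q, hq, e⟩ := k t _ (inv_mem hg)
      obtain ⟨q', hq', e'⟩ := k t _ hg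
      have : q * q' = 1 := mul_right_cancel (b := (t : G)) (by
        calc q * q' * t = q * (q' * t * g) * g⁻¹ := by group
          _ = g * (q * t * g⁻¹) := by rw [← e', ← mul_assoc, ← cq q hq]; group
          _ = _ := by rw [← e]; group)
      calc g * c * g⁻¹ * t = g * (c * q) * t * g⁻¹ := by rw [mul_assoc _ g⁻¹, e]; group
        _ = q * (g * t) * c * g⁻¹ := by
          rw [cq q hq, ← mul_assoc, cq q hq, mul_assoc _ c, c1.1 hc]; group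
        _ = _ := by rw [e', ← mul_assoc, ← mul_assoc, this]; group)
  have o := core_central hf hk tQ le_top hc hO
  refine se_crit hT ?_ (fun e => hZ (top_le_iff.1 ?_)) ?_ ?_
  · exact fun e => z1 ((H5.im_eq_bot_iff hk le_top).1 e (h.le hz))
  · exact H5.le_of_im_le_im hk le_rfl (lnor QZ) le_top (le_top.trans e.ge)
  · rw [← H5.im_pre hf (Nor _)]
    refine H5.im_mono ((H5.pre_normalizer_le _).trans ?_)
    rw [H5.pre_im_of_le hk (QZ.trans h.le) le_top]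
    exact h.nor_le hS hS.isPGroup h.le
  rintro _ ⟨t, ht, rfl⟩ ot
  have e : Uo (f t) = ⊥ := core_bot hT o ?_ ot
  · have e1 : Oo (Cen1 (t : G)) = ⊥ := eq_bot_iff.2 ((le_inf ((H5.im_eq_bot_iff hk le_top).1
      (eq_bot_iff.2 (e ▸ (H5.im_mono (GW.le_Oo ((Oo_le _).trans (k1 t)) ((k2 t).trans (nOo _))
        (odd_Oo _))).trans ((H5.im_pPrimeCoreIn_le 2 _).trans (by rw [H5.im_pre hf]))))) le_rfl).trans
          (two_odd tQ (odd_Oo _)).le)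
    obtain ⟨D, hD, ZD⟩ := H5.exists_isSylowOf_ge (hS.isPGroup.to_le h.le)
      (fun z hz => c1.2 (h.cen z hz t ht).symm : Z ≤ Cen1 (t : G))
    rw [← H5.im_pre hf (Cen1 _)]
    exact H5.im_mono ((k2 t).trans (((pl t ht (ine ot)).nor e1 hD).trans
      (h.nor_le hS hD.isPGroup ZD)))
  rintro _ ⟨t, ht, rfl⟩ ot
  refine ⟨?_, h.r3 hk QZ ht⟩
  rw [← H5.im_pre hf (Cen1 _)]
  refine H5.isSolvable_im (solv_of_sq (k1 t) (k2 t) (pl t ht (ine ot)).solv fun g hg => c1.2 ?_)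
  obtain ⟨q, hq, e⟩ := k t _ hg
  rw [mul_assoc, e, ← mul_assoc, ← mul_assoc, cq q hq, mul_assoc q, e, ← mul_assoc, ← mul_assoc,
    h.zz (QZ hq), one_mul, mul_assoc]

theorem pl (n : ℕ) : ∀ (G : Type u) [Group G] [Finite G] (S Z H : Subgroup G) (a : G),
    Nat.card H ≤ n → U3T S Z → IsSylowOf 2 S H → a ∈ Z → a ≠ 1 → H ≤ Cen1 a → PL H := by
  induction n with
  | zero => exact fun G _ _ S Z H a hn => absurd Nat.card_pos (not_lt.2 hn)
  | succ n ih =>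
  intro G _ _ S Z H a hn h hS ha a1 hc
  obtain ⟨X, _, _, f, hf, hk⟩ := exists_quo (lOo H)
  obtain ⟨Z', h', -⟩ := h.im hk hS
  have hT : IsSylowOf 2 (H5.im f S) ⊤ := H5.im_self hf ▸ hS.im le_rfl
  have hO : Oo (⊤ : Subgroup X) = ⊥ := H5.im_self hf ▸ H5.pPrimeCoreIn_im_eq_bot hf hk le_rfl
  refine p'quo_plength1 hk le_rfl (odd_iff_cop.1 (odd_of_le inf_le_right (odd_Oo H))) ?_
  rw [H5.im_self hf]
  refine plength1_of_normal_sylow hT (le_of_eq (Eq.symm ?_))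
  have m := hS.le (h.le ha)
  have oa := lf_ord hf hk m (o2 (h.zz ha) a1)
  have ma : f ⟨a, m⟩ ∈ Z' ⊓ Cen ⊤ := ⟨(h'.mem _).2 ⟨H5.mem_im_of_mem m (h.le ha), ii oa⟩,
    cen_iff_le.2 (H5.im_self hf ▸ (H5.im_mono hc).trans (H5.im_centralizer_singleton_le m))⟩
  have hc' : ⊤ ≤ Cen (Z' ⊓ Cen ⊤ : Subgroup X) := le_cen_symm inf_le_right
  by_cases e : Z' ≤ Z' ⊓ Cen ⊤
  · exact h'.central hT hO (le_cen_symm (e.trans inf_le_right))
  obtain ⟨z, hz, z1⟩ := SetLike.not_le_iff_exists.1 e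
  obtain ⟨Y, _, _, φ, hφ, hk'⟩ := exists_quo (cnor hc')
  refine (h'.main hT hO inf_le_left hc' hφ hk' hz z1 fun t ht t1 => ih X _ Z' _ t ?_ h'
    (hT.of_le (h'.le_c1 ht) le_top) ht (fun e => t1 (e ▸ one_mem _)) le_rfl).resolve_right
      fun se => ?_
  · have := H5.card_lt_of_lt (lt_top_iff_ne_top.2 fun e : Cen1 t = ⊤ => t1 ⟨ht, cen_iff_le.2 e.ge⟩)
    have h2 := Nat.le_of_dvd Nat.card_pos (H5.card_im_dvd (f := f) H)
    rw [H5.im_self hf] at h2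
    omega
  obtain ⟨x, hx, x1⟩ := h'.ex
  obtain ⟨y, hy, -, e1⟩ := h'.rt x hx x1 _ ma.1
  have one : ∀ x : (⊤ : Subgroup X), φ x = 1 ↔ (x : X) ∈ Z' ⊓ Cen ⊤ := fun x =>
    H5.map_eq_one_iff_of_ker hk'
  obtain ⟨g, -, e2⟩ := BS.oc_top_of_se se (φ ⟨z, trivial⟩) trivial (φ ⟨y, trivial⟩) trivial
    ⟨mt (one _).1 z1, by rw [← map_mul, one]; exact H5.mem_of_eq (one_mem _) (h'.zz hz).symm⟩
    ⟨fun e => ine oa (e1 ▸ h'.zz ((one _).1 e).1), by rw [← map_mul, one]; exact H5.mem_of_eq ma e1.symm⟩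
  obtain ⟨g, rfl⟩ := hφ g
  have e3 := (one (⟨y, trivial⟩ * (g * ⟨z, trivial⟩ * g⁻¹)⁻¹)).1 (by
    simp only [map_mul, map_inv]; rw [e2, mul_inv_cancel])
  refine ine oa (e1.symm.trans ?_)
  have e4 := GW.cen.1 e3.2 (g * z * (g : X)⁻¹) trivial
  have e5 := h'.zz e3.1
  simp only [coe_mul, coe_inv] at e4 e5
  have e6 : g * z * (g : X)⁻¹ * (g * z * (g : X)⁻¹) = 1 := csq (h'.zz hz)
  rw [← inv_mul_cancel_right y (g * z * (g : X)⁻¹)]
  generalize y * (g * z * (g : X)⁻¹)⁻¹ = q at e4 e5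
  rw [mul_assoc, ← mul_assoc _ q, ← e4, mul_assoc, e6, mul_one, e5]

theorem cases (h : U3T S Z) (hS : IsSylowOf 2 S ⊤) (hO : Oo (⊤ : Subgroup G) = ⊥) :
    Nor S = ⊤ ∨ IsStronglyEmbedded (Nor Z) := by
  obtain ⟨z, hz, z1, -⟩ := exists_ne_two (lt_of_lt_of_le (by norm_num) h.eight) 1
  have := h.main hS hO (Q := ⊥) bot_le (le_cen_symm bot_le) (f := (⊤ : Subgroup G).subtype)
    (fun g => ⟨⟨g, trivial⟩, rfl⟩) (by simp) hz z1 fun t ht t1 =>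
      pl _ G S Z _ t le_rfl h (hS.of_le (h.le_c1 ht) le_top) ht t1 le_rfl
  rwa [H5.im, subgroupOf_map_subtype, inf_top_eq] at this

theorem psu (h : U3T S Z) (hS : IsSylowOf 2 S ⊤) (se : IsStronglyEmbedded (Nor Z))
    (hO : oddCore G = ⊥) : ∃ (F : Type) (_ : Field F) (_ : Fintype F) (N : Subgroup G),
      Fintype.card F = Nat.card Z ^ 2 ∧ N.Normal ∧ Odd N.index ∧
      Nonempty (N ≃* PSU 3 F (Nat.card Z)) := by
  obtain ⟨Q, D, t, H, c⟩ := BS.seThm G _ se (BS.rk2_top_iff.mp (BS.rk2_of_se se hO)) hO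
  have n := le_normalizer.trans (h.nor_le hS hS.isPGroup h.le)
  obtain rfl : Q = S := (hS.of_le n le_top).eq_of_le c.two
    (H.toA1.two_le_Q n hS.isPGroup) H.toA1.Q_le
  obtain rfl : BS.Q0 Q = Z := le_antisymm ((closure_le _).mpr fun x hx => (h.mem x).mpr hx)
    fun x hx => subset_closure ((h.mem x).mp hx)
  obtain ⟨s, hs⟩ := H.toA1.exists_dist
  have c1 := h.card
  have c2 := h.eight
  rcases c.tri s hs with ⟨e1, -⟩ | ⟨e1, -⟩ | ⟨-, -, -, -, F, i1, i2, h1, h2⟩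
  · obtain ⟨x, hx, x1⟩ := h.ex
    exact (x1 (e1.ge hx)).elim
  · exact absurd (Nat.pow_right_injective (by omega) (c1.symm.trans e1)) (by norm_num)
  · exact ⟨F, i1, i2, _, h1, H.Fg_normal, H.odd_index, H.equiv_of_cquot h2⟩

end U3T

end W
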