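import Cfsg.Agent.W.M4
import Cfsg.Agent.Ly.Model

/-! The Schur multiplier of `SU₃(q)`, `q = 2 ^ n ≥ 4`, is trivial. -/

set_option autoImplicit false
set_option linter.unusedSectionVars false
set_option linter.unusedVariables false

namespace W

open Cfsg Subgroup FT H4 GW H2 BS BS.SU3
open Matrix hiding vec
open H5 (IsSylowOf)
open scoped commutatorElement

namespace U

variable {F : Type*} [Field F] {H : Herm F} {q : ℕ} (hq : ∀ x, H.σ x = x ^ q)

theorem act_ext {g h : SU 3 F q} (H : Herm F)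
    (e : ∀ c a b, act g (vec H c a b) = act h (vec H c a b)) : g = h :=
  Subtype.ext (Subtype.ext (Matrix.toLin'.injective (LinearMap.ext fun v => by
    obtain ⟨c, a, b, rfl⟩ := exists_vec H v
    exact e c a b)))

/-- the matrices of the torus -/
def dm (H : Herm F) (l m n : F) : Matrix (Fin 3) (Fin 3) F :=
  !![l * (1 + H.ω) + n * H.ω, (l + n) * (1 + H.ω), 0;
    (l + n) * H.ω, l * H.ω + n * (1 + H.ω), 0; 0, 0, m]

theorem dm_vec (l m n c a b : F) : dm H l m n *ᵥ vec H c a b = vec H (l * c) (m * a) (n * b) := by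
  have := H.two
  ext i; fin_cases i <;> simp [vec, dm, Matrix.mulVec, dotProduct, Fin.sum_univ_three] <;> grind

theorem det_dm (l m n : F) : (dm H l m n).det = l * m * n := by
  have := H.two
  simp [dm, det_fin_three]; grind

theorem det_dm' (l : Fˣ) : (dm H l (H.σ l / l) (H.σ l)⁻¹).det = 1 := by
  have : H.σ l ≠ 0 := by simp
  rw [det_dm]; field_simp

include hq in
theorem dm_mem (l : Fˣ) : (⟨_, det_dm' (H := H) l⟩ : SpecialLinearGroup (Fin 3) F) ∈ SU 3 F q :=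
  fun u v => by
  obtain ⟨c, a, b, rfl⟩ := exists_vec H u
  obtain ⟨c', a', b', rfl⟩ := exists_vec H v
  have : H.σ l ≠ 0 := by simp
  change hermForm 3 F q (dm H _ _ _ *ᵥ _) (dm H _ _ _ *ᵥ _) = _
  simp only [dm_vec, herm_vec hq, map_mul, map_div₀, map_inv₀, H.invol]
  field_simp

/-- the torus -/
def tor : Fˣ →* SU 3 F q :=
  MonoidHom.mk' (fun l => ⟨_, dm_mem hq l⟩) fun l m => act_ext H fun c a b => by
    rw [act_mul]
    simp only [act, dm_vec, Units.val_mul, map_mul]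
    congr 1 <;> ring

theorem act_tor (l : Fˣ) (c a b : F) :
    act (tor hq l) (vec H c a b) = vec H (l * c) (H.σ l / l * a) ((H.σ l)⁻¹ * b) := dm_vec ..

theorem tor_U (l : Fˣ) (x : U3 H) : ∃ y : U3 H, tor hq l * U3.toSU hq x * (tor hq l)⁻¹ =
    U3.toSU hq y ∧ y.a = H.σ l / l ^ 2 * x.a ∧ y.b = (l * H.σ l)⁻¹ * x.b := by
  have : H.σ l ≠ 0 := by simp
  refine ⟨⟨_, _, ?_⟩, mul_inv_eq_of_eq_mul (act_ext H fun c a b => ?_), rfl, rfl⟩
  · simp only [map_mul, map_div₀, map_inv₀, H.invol, map_pow]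
    field_simp
    rw [x.h]
  · simp only [act_mul, act_tor, act_U, map_mul, map_div₀, map_pow, H.invol]
    congr 1 <;> field_simp

/-- the diagonal matrices -/
def dg {μ : Subgroup Fˣ} (hμ : ∀ u ∈ μ, (u : F) * H.σ u = 1) : μ × μ →* SU 3 F q :=
  MonoidHom.mk' (fun p => ⟨⟨diagonal ![p.1.1, p.2.1, (p.1 * p.2)⁻¹.1], by
      simp [det_diagonal, Fin.prod_univ_three]; field_simp⟩, fun u v => by
      change hermForm 3 F q (diagonal _ *ᵥ _) (diagonal _ *ᵥ _) = _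
      simp only [U3.herm_eq hq, mulVec_diagonal, map_mul, cons_val]
      linear_combination u 0 * H.σ (v 0) * hμ _ p.1.2 + u 1 * H.σ (v 1) * hμ _ p.2.2 +
        u 2 * H.σ (v 2) * hμ _ (p.1 * p.2)⁻¹.2⟩) fun l m => Subtype.ext (Subtype.ext (by
    change diagonal _ = diagonal _ * diagonal _
    rw [diagonal_mul_diagonal]
    congr 1; ext i; fin_cases i <;> simp; ring))

/-- the cyclic permutation matrix -/
def px : SU 3 F q := ⟨⟨!![0, 0, 1; 1, 0, 0; 0, 1, 0], by simp [det_fin_three]⟩, fun u v => by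
  change hermForm 3 F q (!![0, 0, 1; 1, 0, 0; 0, 1, 0] *ᵥ _) (!![0, 0, 1; 1, 0, 0; 0, 1, 0] *ᵥ _) = _
  simp [U3.herm_eq hq, dotProduct, Fin.sum_univ_three]; ring⟩

/-- the transposition matrix -/
def ps : SU 3 F q := ⟨⟨!![0, 1, 0; 1, 0, 0; 0, 0, 1], by
  have := H.two; simp [det_fin_three]; grind⟩, fun u v => by
  change hermForm 3 F q (!![0, 1, 0; 1, 0, 0; 0, 0, 1] *ᵥ _) (!![0, 1, 0; 1, 0, 0; 0, 0, 1] *ᵥ _) = _
  simp [U3.herm_eq hq, dotProduct, Fin.sum_univ_three]; ring⟩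

variable {μ : Subgroup Fˣ} (hμ : ∀ u ∈ μ, (u : F) * H.σ u = 1)

theorem px_dg (u v : μ) : px hq * dg hq hμ (u, v) * (px hq)⁻¹ = dg hq hμ ((u * v)⁻¹, u) :=
  mul_inv_eq_of_eq_mul (Subtype.ext (Subtype.ext (by
    change !![0, 0, 1; 1, 0, 0; 0, 1, 0] * diagonal _ = diagonal _ * !![0, 0, 1; 1, 0, 0; 0, 1, 0]
    ext i j; fin_cases i <;> fin_cases j <;> simp)))

theorem ps_dg (u v : μ) : ps hq * dg hq hμ (u, v) * (ps hq)⁻¹ = dg hq hμ (v, u) :=
  mul_inv_eq_of_eq_mul (Subtype.ext (Subtype.ext (by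
    change !![0, 1, 0; 1, 0, 0; 0, 0, 1] * diagonal _ = diagonal _ * !![0, 1, 0; 1, 0, 0; 0, 0, 1]
    ext i j; fin_cases i <;> fin_cases j <;> simp [mul_comm])))

theorem dg_inj : Function.Injective (dg hq hμ) := fun p p' e =>
  Prod.ext (Subtype.ext (Units.ext (congrArg (fun g : SU 3 F q => g.1.1 0 0) e)))
    (Subtype.ext (Units.ext (congrArg (fun g : SU 3 F q => g.1.1 1 1) e)))

theorem px3 : px hq ^ 3 = 1 := Subtype.ext (Subtype.ext (by
  change !![0, 0, 1; 1, 0, 0; 0, 1, 0] ^ 3 = (1 : Matrix (Fin 3) (Fin 3) F)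
  ext i j; fin_cases i <;> fin_cases j <;> simp [pow_succ]))

theorem px_nmem : px hq ∉ (dg hq hμ).range := fun ⟨p, e⟩ =>
  zero_ne_one (α := F) (congrArg (fun g : SU 3 F q => g.1.1 1 0) e)

theorem dg_cen {p : μ × μ} (e : dg hq hμ p * px hq = px hq * dg hq hμ p) :
    dg hq hμ p ∈ center _ := by
  obtain ⟨u, v⟩ := p
  obtain ⟨e1, e2⟩ := Prod.ext_iff.1 (dg_inj hq hμ ((eq_mul_inv_of_mul_eq e).trans (px_dg hq hμ u v)))
  obtain rfl : v = u := e2
  refine mem_center_iff.2 fun g => Subtype.ext (Subtype.ext ?_)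
  change _ * diagonal _ = diagonal _ * _
  rw [← show v = (v * v)⁻¹ from e1]
  ext i j
  rw [mul_diagonal, diagonal_mul, mul_comm]
  congr 1; fin_cases i <;> fin_cases j <;> rfl

include hq hμ in
theorem scalar {u : μ} (hu : u ≠ 1) {g : SU 3 F q} (hg : g ∈ center _) :
    ∃ l : F, l ^ 3 = 1 ∧ g.1.1 = diagonal fun _ => l := by
  have e : !![0, 0, 1; 1, 0, 0; 0, 1, 0] * g.1.1 = g.1.1 * !![0, 0, 1; 1, 0, 0; 0, 1, 0] :=
    congrArg (fun g : SU 3 F q => g.1.1) (mem_center_iff.1 hg (px hq))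
  have f : diagonal _ * g.1.1 = g.1.1 * diagonal _ :=
    congrArg (fun g : SU 3 F q => g.1.1) (mem_center_iff.1 hg (dg hq hμ (u, 1)))
  have d := g.1.2
  have u1 : ((u : Fˣ) : F) ≠ 1 := fun e => hu (Subtype.ext (Units.ext e))
  have f1 := congrFun₂ f 0 1
  have f2 := congrFun₂ f 1 0
  have k : g.1.1 = diagonal fun _ => g.1.1 0 0 := by
    have e' := fun i j => congrFun₂ e i j
    simp [Fin.forall_fin_succ, Matrix.mul_apply, Fin.sum_univ_three] at e' f1 f2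
    ext i j; fin_cases i <;> fin_cases j <;> simp <;> grind
  exact ⟨_, by rw [k] at d; simpa using d, k⟩

theorem ar3 {p r : ℕ} (hp : p.Prime) (p2 : p ≠ 2) (d : p ∣ r + 2) :
    ¬ p * 3 ∣ (r + 1) ^ 3 * r * (r ^ 2 + r + 1) := fun h => by
  have c : p.Coprime ((r + 1) ^ 3 * r) := Nat.Coprime.mul_right (Nat.Coprime.pow_right 3
    (hp.coprime_iff_not_dvd.2 fun e => hp.one_lt.ne' (Nat.dvd_one.1 ((Nat.dvd_add_right e).1 d))))
    (hp.coprime_iff_not_dvd.2 fun e => p2 ((Nat.prime_dvd_prime_iff_eq hp Nat.prime_two).1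
      ((Nat.dvd_add_right e).1 d)))
  have d3 := dvd_add (c.dvd_of_dvd_mul_left (dvd_of_mul_right_dvd h)) d
  rw [show r ^ 2 + r + 1 + (r + 2) = r * (r + 2) + 3 by ring,
    Nat.dvd_add_right (d.mul_left r), Nat.prime_dvd_prime_iff_eq hp Nat.prime_three] at d3
  subst d3
  have := (c.mul_left c).dvd_of_dvd_mul_left h
  obtain ⟨s, rfl⟩ : ∃ s, r = 3 * s + 1 := ⟨r / 3, by omega⟩
  rw [show (3 * s + 1) ^ 2 + (3 * s + 1) + 1 = 9 * (s ^ 2 + s) + 3 by ring] at this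
  omega

theorem ex_zeta [Fintype F] (hF : Fintype.card F = q ^ 2) : ∃ ζ : Fˣ, orderOf ζ = q + 1 := by
  obtain ⟨g, hg⟩ := IsCyclic.exists_ofOrder_eq_natCard (α := Fˣ)
  refine ⟨_, orderOf_pow_orderOf_div (x := g) (orderOf_pos g).ne' ?_⟩
  rw [hg, Nat.card_units, Nat.card_eq_fintype_card, hF]
  exact ⟨q - 1, by simpa using Nat.sq_sub_sq q 1⟩

include hq in
theorem zeta {ζ : Fˣ} (hζ : orderOf ζ = q + 1) : ∀ u ∈ zpowers ζ, (u : F) * H.σ u = 1 :=
  fun u hu => by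
  rw [hq, ← pow_succ', ← Units.val_pow_eq_pow_val, ← hζ,
    orderOf_dvd_iff_pow_eq_one.1 (orderOf_dvd_of_mem_zpowers hu), Units.val_one]

variable [Fintype F] {n : ℕ} (hn : 2 ≤ n) (hF : Fintype.card F = 4 ^ n)
  (hq : ∀ x, H.σ x = x ^ 2 ^ n) {L : Type*} [Group L] [Finite L]
include hn hF

theorem cardQ : Nat.card (split hq).Q = (2 ^ n) ^ 3 := by
  rw [show (split hq).Q = (U3.toSU hq).range from rfl, ← Nat.card_congr (MonoidHom.ofInjective
    (U3.toSU_injective hq)).toEquiv, ← card_top, Ly.card_U3 ⊤ (fun _ => True) (by simp),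
    card_K_eq H hF, Nat.card_congr (Equiv.subtypeUnivEquiv fun _ => trivial),
    Nat.card_eq_fintype_card, hF, show 4 = 2 * 2 from rfl, mul_pow]
  ring

theorem cardD : Nat.card (tor hq).range ∣ 4 ^ n - 1 := by
  rw [← hF, ← Nat.card_eq_fintype_card, ← Nat.card_units]; exact card_range_dvd _

theorem r1 : R1 (split hq) (tor hq).range := by
  refine ⟨(U3.sylowSU hq).2, fun e => ?_, isCyclic_of_surjective _ (tor hq).rangeRestrict_surjective,
    (Nat.Even.sub_odd (Nat.one_le_pow _ _ four_pos) (Nat.even_pow.2 ⟨by decide, by omega⟩)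
      odd_one).of_dvd_nat (cardD hn hF hq), ?_, fun g ⟨l, hl⟩ => ?_⟩
  · have := cardQ hn hF hq
    rw [e, card_bot, eq_comm, Nat.pow_eq_one, Nat.pow_eq_one] at this
    omega
  · rintro _ ⟨l, rfl⟩
    refine mem_normalizer_fintype ?_
    rintro _ ⟨x, rfl⟩
    exact (tor_U hq l x).elim fun y e => ⟨y, e.1.symm⟩
  refine (mul_mem_cancel_left (mem_sup_right (MonoidHom.mem_range.2
    ⟨Units.mk0 (H.σ l) (by simpa using ne_zero_of_act hl), rfl⟩))).1
      (mem_sup_left (U3.mem_range_of_fix hq _ ?_))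
  rw [← vec_e (H := H)]
  change act _ _ = _
  rw [act_mul, hl, act_tor]
  simp [H.invol, ne_zero_of_act hl]

theorem two {π : L →* SU 3 F (2 ^ n)} (h : CE π) [Group.IsPerfect L] {z : L} (hz : π z = 1)
    (zz : z * z = 1) : z = 1 := by
  obtain ⟨H, hq⟩ := exists_herm (by omega) hF
  obtain ⟨ζ, hζ⟩ := ex_zeta (F := F) (q := 2 ^ n) (by rw [hF, ← pow_mul, mul_comm, pow_mul]; rfl)
  have h2 := H.two
  have r := r1 hn hF hq
  let Z := (center (U3 H)).map (U3.toSU hq)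
  have mZ : ∀ {x}, U3.toSU hq x ∈ Z ↔ x.a = 0 :=
    (mem_map_iff_mem (U3.toSU_injective hq)).trans U3.mem_center_iff'
  let φ : SU 3 F (2 ^ n) → F := fun g => g.1.1 2 0
  let ψ : SU 3 F (2 ^ n) → F := fun g => g.1.1 1 0
  have f1 : ∀ x, φ (U3.toSU hq x) = x.a := fun x => rfl
  have f2 : ∀ x, ψ (U3.toSU hq x) = x.b := fun x => rfl
  have c : Co (split hq).Q Z (tor hq).range φ ψ := by
    refine ⟨?_, ?_, ?_, ?_, fun a => ⟨_, ⟨U3.sec H a, rfl⟩, rfl⟩, ?_, ?_, map_le_range _ _, ?_,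
      r.nor, h2⟩
    · rintro _ hx
      obtain ⟨x, -, rfl⟩ := id hx
      have e := x.h
      rw [mZ.1 hx] at e
      obtain ⟨y, hy⟩ := H.exists_norm (x := x.b) (by grind)
      exact ⟨by rw [← sq, ← map_pow, U3.sq_eq_one_iff.2 (mZ.1 hx), map_one], _, ⟨U3.sec H y, rfl⟩, by
        rw [← sq, ← map_pow, U3.ext ((U3.sq_a _).trans (mZ.1 hx).symm) ((U3.sq_b _).trans hy)]⟩
    · rintro _ ⟨x, hx, rfl⟩ _ ⟨y, rfl⟩
      rw [← map_mul, ← map_mul, mem_center_iff.1 hx]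
    · rintro _ ⟨x, rfl⟩ _ ⟨y, rfl⟩
      rw [← map_mul]; rfl
    · rintro _ ⟨x, rfl⟩
      exact mZ.symm
    · rintro _ ⟨x, hx, rfl⟩ _ ⟨y, -, rfl⟩
      simp [← map_mul, f2, U3.mem_center_iff'.1 hx]
    · rintro _ ⟨x, hx, rfl⟩ e
      rw [show x = 1 from U3.ext (U3.mem_center_iff'.1 hx) e, map_one]
    · rintro _ ⟨l, rfl⟩
      refine mem_normalizer_fintype ?_
      rintro _ ⟨x, hx, rfl⟩
      obtain ⟨y, e, e1, -⟩ := tor_U hq l x
      rw [SetLike.mem_coe, e, mZ, e1, U3.mem_center_iff'.1 hx, mul_zero]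
  have wt : ∀ l : Fˣ, ∃ d ∈ (tor hq).range, (∀ x ∈ Z, ψ (d * x * d⁻¹) = (l * H.σ l)⁻¹ * ψ x) ∧
      ∀ x ∈ (split hq).Q, φ (d * x * d⁻¹) = H.σ l / l ^ 2 * φ x := fun l => by
    refine ⟨_, ⟨l, rfl⟩, ?_, ?_⟩
    · rintro _ ⟨x, -, rfl⟩
      obtain ⟨y, e, -, e1⟩ := tor_U hq l x
      rw [e, f2, f2, e1]
    · rintro _ ⟨x, rfl⟩
      obtain ⟨y, e, e1, -⟩ := tor_U hq l x
      rw [e, f1, f1, e1]
  obtain ⟨a, ha, hb⟩ : ∃ a : F, a ^ 4 ≠ a ∧ ∀ b ≠ 0, b = a ∨ b = a + 1 →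
      ∃ l : F, l ≠ 0 ∧ H.σ l / l ^ 2 = b := by
    rcases hn.eq_or_lt with rfl | h3
    · obtain ⟨a, -, ha⟩ := ex4 (s := (Set.univ : Set F)) (by
        rw [Nat.card_congr (Equiv.Set.univ F), Nat.card_eq_fintype_card]; omega)
      refine ⟨a, ha, fun b b0 _ => ?_⟩
      obtain ⟨l, rfl⟩ := H.exists_sqrt b
      have := left_ne_zero_of_mul b0
      exact ⟨l, this, by rw [hq]; field_simp; ring⟩
    obtain ⟨a, m, ha⟩ := ex4 (s := (H.K : Set F)) (lt_of_lt_of_eq (lt_of_lt_of_le (by norm_num)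
      (Nat.pow_le_pow_right two_pos h3)) (card_K_eq H hF).symm)
    refine ⟨a, ha, fun b b0 e => ⟨b⁻¹, inv_ne_zero b0, ?_⟩⟩
    rw [map_inv₀, show H.σ b = b by rcases e with rfl | rfl <;> simp [H.mem_K.1 m]]
    field_simp
  have z1 := zeta hq hζ ζ (mem_zpowers ζ)
  refine h.two2 c r.oddQ r.odd [(1, H.σ ζ / ζ ^ 2), (1, 1)] ?_ (by simp; grind) ?_ ha
    (fun b e => ?_) hz zz
  · simp only [List.mem_cons, List.not_mem_nil, or_false]
    rintro _ (rfl | rfl)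
    · exact ⟨by simp, by simpa [z1] using wt ζ⟩
    · exact ⟨one_ne_zero, by simpa using wt 1⟩
  · simp only [List.map_cons, List.sum_cons, List.map_nil, List.sum_nil]
    intro e
    have : H.σ ζ ≠ 0 := by simp
    field_simp at e
    have := Nat.le_of_dvd three_pos (hζ ▸ orderOf_dvd_of_pow_eq_one (Units.ext (by
      push_cast; grind)))
    have := Nat.pow_le_pow_right two_pos hn
    omega
  obtain ⟨l, l0, rfl⟩ := hb b (by rintro rfl; grind) e
  exact (wt (Units.mk0 l l0)).imp fun g hg => ⟨hg.1, hg.2.2⟩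

theorem inj {π : L →* SU 3 F (2 ^ n)} (h : CE π) [Group.IsPerfect L] : Function.Injective π := by
  obtain ⟨H, hq⟩ := exists_herm (by omega) hF
  have hF' : Fintype.card F = (2 ^ n) ^ 2 := by rw [hF, ← pow_mul, mul_comm, pow_mul]; rfl
  obtain ⟨ζ, hζ⟩ := ex_zeta hF'
  have r := r1 hn hF hq
  have hμ := zeta hq hζ
  refine h.inj r (fun z => two hn hF h) fun z hz hp p2 d => ?_
  rw [cardQ hn hF] at d
  by_cases d' : orderOf z ∣ 2 ^ n + 1
  swap
  · refine h.syl hz hp fun P hP => ?_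
    have := Fact.mk hp
    generalize orderOf z = p at *
    rw [← ZMod.natCast_eq_zero_iff] at d d'
    refine fpfM ((slToMat 3 F).comp (Subgroup.subtype _)) (Subtype.val_injective.comp
      Subtype.val_injective) p2 hP ?_ fun t j j0 j4 => ?_ <;> rw [hF'] <;>
      generalize 2 ^ n = q at * <;> push_cast at *
    · grind
    · interval_cases j <;> grind
  have nx : px hq ∈ Nor (dg hq hμ).range := mem_normalizer_fintype (by
    rintro _ ⟨⟨u, v⟩, rfl⟩; exact ⟨_, (px_dg hq hμ u v).symm⟩)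
  have ox : orderOf (px hq) = 3 := orderOf_eq_prime (px3 hq) fun e => px_nmem hq hμ (e ▸ one_mem _)
  have c := H5.card_sup_of_disjoint (zpowers_le.2 nx) (by
    have := Fact.mk (show (Nat.card (zpowers (px hq))).Prime by rw [Nat.card_zpowers, ox]; norm_num)
    rcases ((dg hq hμ).range.subgroupOf (zpowers (px hq))).eq_bot_or_eq_top_of_prime_card with e | e
    · exact disjoint_iff.1 (subgroupOf_eq_bot.1 e)
    · exact absurd (subgroupOf_eq_top.1 e (mem_zpowers _)) (px_nmem hq hμ))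
  rw [Nat.card_zpowers, ox, ← Nat.card_congr (MonoidHom.ofInjective (dg_inj hq hμ)).toEquiv,
    Nat.card_prod, Nat.card_zpowers, hζ] at c
  have k := h.tr hz Group.IsPerfect.mem_commutator (M := (dg hq hμ).range ⊔ zpowers (px hq))
    (hp.coprime_iff_not_dvd.2 fun e => by
      have := r.dvd.trans (Nat.mul_dvd_mul_right (Nat.mul_dvd_mul_left _ (cardD hn hF hq)) _)
      rw [← card_mul_index ((dg hq hμ).range ⊔ zpowers (px hq)), c, cardQ hn hF, ← hF, hF'] at this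
      obtain ⟨r, hr⟩ := Nat.exists_eq_add_one_of_ne_zero (pow_ne_zero n two_ne_zero)
      generalize ((dg hq hμ).range ⊔ zpowers (px hq)).index = i at e this
      rw [hr] at d' this
      refine ar3 hp p2 d' (Nat.dvd_of_mul_dvd_mul_left (k := (r + 2) * (r + 2)) (by positivity) ?_)
      rw [show (r + 1) ^ 2 - 1 = r * (r + 2) by rw [Nat.sub_eq_iff_eq_add] <;> nlinarith] at this
      exact (dvd_of_eq (by ring)).trans (((Nat.mul_dvd_mul_left _ e).trans this).trans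
        (dvd_of_eq (by ring))))
  obtain ⟨x, hx⟩ := h.surj (px hq)
  obtain ⟨s, hs⟩ := h.surj (ps hq)
  obtain ⟨a, ha⟩ := h.surj (dg hq hμ (⟨ζ, mem_zpowers ζ⟩, 1))
  obtain ⟨b, hb⟩ := h.surj (dg hq hμ (1, ⟨ζ, mem_zpowers ζ⟩))
  have kab : π ⁅a, b⁆ = 1 := by
    rw [map_commutatorElement, ha, hb, ← map_commutatorElement, commutatorElement_eq_one_iff_mul_comm.2
      (mul_comm _ _), map_one]
  have cab : Commute a b := commutatorElement_eq_one_iff_commute.1 (two hn hF h kab (by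
    rw [mul_eq_one_iff_eq_inv, commutatorElement_inv, ← mul_inv_cancel_right ⁅a, b⁆ s,
      ← h.cen _ kab, conjugate_commutatorElement]
    exact h.cmm (by simp only [map_mul, map_inv, hs, ha, hb, ps_dg])
      (by simp only [map_mul, map_inv, hs, ha, hb, ps_dg])))
  have ge : ∀ y, π y ∈ (dg hq hμ).range → ∃ i j : ℤ, π (a ^ i * b ^ j) = π y := by
    rintro y ⟨⟨⟨_, i, rfl⟩, ⟨_, j, rfl⟩⟩, e⟩
    refine ⟨i, j, ?_⟩
    rw [← e, map_mul, map_zpow, map_zpow, ha, hb, ← map_zpow, ← map_zpow, ← map_mul]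
    congr 1; ext <;> simp
  rw [← hx, ← MonoidHom.map_zpowers, ← map_comap_eq_self_of_surjective h.surj (dg hq hμ).range,
    ← Subgroup.map_sup, comap_map_eq_self ((ker_le_comap _ _).trans le_sup_left)] at k
  refine (comm_ext (fun u hu v hv => ?_) (le_normalizer_comap π (mem_comap.2 (hx ▸ nx))) k).elim ?_
  swap
  · rintro y ⟨⟨p, hy⟩, rfl⟩
    rw [map_commutatorElement, ← hy, hx, commutatorElement_eq_one_iff_mul_comm] at hz
    exact commutatorElement_eq_one_iff_mul_comm.2 (h.grun (hy ▸ dg_cen hq hμ hz) x).symm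
  obtain ⟨i, j, e⟩ := ge u hu
  obtain ⟨i', j', e'⟩ := ge v hv
  exact h.cm e e' (((Commute.zpow_zpow_self a i i').mul_left (cab.symm.zpow_zpow j i')).mul_right
    ((cab.zpow_zpow i j').mul_left (Commute.zpow_zpow_self b j j')))

theorem cover {π : L →* PSU 3 F (2 ^ n)} (h : CE π) [Group.IsPerfect L] :
    (∀ z, π z = 1 → z ^ 3 = 1) ∧ (Function.Injective π ∨ Nonempty (L ≃* SU 3 F (2 ^ n))) := by
  obtain ⟨H, hq⟩ := exists_herm (by omega) hF
  obtain ⟨ζ, hζ⟩ := ex_zeta (F := F) (q := 2 ^ n) (by rw [hF, ← pow_mul, mul_comm, pow_mul]; rfl)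
  have z1 : (⟨ζ, mem_zpowers ζ⟩ : zpowers ζ) ≠ 1 := fun e => by
    rw [show ζ = 1 from congrArg Subtype.val e, orderOf_one] at hζ
    exact pow_ne_zero n two_ne_zero (by omega)
  have sc := fun g => scalar hq (zeta hq hζ) z1 (g := g)
  have c3 : ∀ g ∈ center (SU 3 F (2 ^ n)), g ^ 3 = 1 := fun g hg => (sc g hg).elim fun l e =>
    Subtype.ext (Subtype.ext (by
      change g.1.1 ^ 3 = 1
      rw [e.2, diagonal_pow, ← diagonal_one]; congr 1; exact funext fun _ => e.1))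
  let ρ := QuotientGroup.mk' (center (SU 3 F (2 ^ n)))
  have hρ : CE ρ := ⟨QuotientGroup.mk'_surjective _, fun z hz =>
    mem_center_iff.1 ((QuotientGroup.eq_one_iff z).1 hz)⟩
  have : Group.IsPerfect (SU 3 F (2 ^ n)) := by
    have := Group.IsPerfect.ofSurjective h.surj
    have k : ∀ g : SU 3 F (2 ^ n), g ^ 4 = 1 → g ∈ commutator _ := fun g e => by
      obtain ⟨y, hy⟩ := surj_comm ρ hρ.surj Group.IsPerfect.commutator_eq_top (ρ g)
      have m : y.1⁻¹ * g ∈ _ := QuotientGroup.eq.1 hy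
      refine H5.mem_of_eq (inv_mem (pow_mem y.2 3)) (inv_eq_of_mul_eq_one_right ?_)
      rw [← e, pow_succ g, ← mul_one (y.1 ^ 3), ← c3 _ m,
        ← (show Commute _ _ from mem_center_iff.1 m y).mul_pow, mul_inv_cancel_left]
    refine ⟨eq_top_iff.2 (split_L hq ▸ (closure_le _).2 ?_)⟩
    rintro _ (⟨x, rfl⟩ | rfl)
    · exact k _ (by rw [← map_pow, show 4 = 2 * 2 from rfl, pow_mul, U3.sq_eq_one_iff.2 (U3.sq_a x),
        map_one])
    · exact k _ (by rw [show 4 = 2 * 2 from rfl, pow_mul, sq (split hq).t, (split hq).t_sq, one_pow])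
  obtain ⟨f, fs, hf⟩ := h.lift hρ fun P p _ hp => inj hn hF hp
  have m : ∀ y, π (f y) = 1 → y ∈ center _ := fun y e =>
    (QuotientGroup.eq_one_iff y).1 ((hf y).symm.trans e)
  refine ⟨fun z hz => ?_, (em (Function.Injective f)).symm.imp (fun hi => ?_)
    fun hi => ⟨(MulEquiv.ofBijective f ⟨hi, fs⟩).symm⟩⟩
  · obtain ⟨y, rfl⟩ := fs z
    rw [← map_pow, c3 y (m y hz), map_one]
  rw [injective_iff_map_eq_one] at hi ⊢
  push Not at hi
  obtain ⟨g, hg, g1⟩ := hi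
  intro z hz
  obtain ⟨y, rfl⟩ := fs z
  obtain ⟨l, l3, el⟩ := sc g (m g (by rw [hg, map_one]))
  obtain ⟨k, k3, ek⟩ := sc y (m y hz)
  have l1 : l ≠ 1 := fun e => g1 (Subtype.ext (Subtype.ext (by rw [el, e]; rfl)))
  obtain ⟨i, rfl⟩ : ∃ i : ℕ, k = l ^ i := by
    rcases show k = l ^ 0 ∨ k = l ^ 1 ∨ k = l ^ 2 by grind with e | e | e <;> exact ⟨_, e⟩
  rw [show y = g ^ i from Subtype.ext (Subtype.ext (by
    change _ = g.1.1 ^ i; rw [el, ek, diagonal_pow]; rfl)), map_pow, hg, one_pow]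

end U

end W
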