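import Cfsg.Agent.W.CI3
import Cfsg.Agent.W.M5

/-! Central Sylow 2-intersections: the structure theorem. -/

set_option autoImplicit false
set_option linter.unusedSectionVars false
set_option linter.unusedVariables false

namespace W

open Cfsg Subgroup FT H4 GW
open H5 (IsSylowOf im pre)
open scoped commutatorElement

universe u

section
variable {G : Type u} [Group G] [Finite G] {S T H K M N A B Y Z : Subgroup G}

theorem mem_sup_zp {x g : G} (hn : x ∈ Nor N) (h2 : x * x ∈ N) (h : g ∈ N ⊔ zpowers x) :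
    g ∈ N ∨ g * x ∈ N := by
  obtain ⟨a, ha, _, ⟨k, rfl⟩, rfl⟩ := (mem_sup_of_le_normalizer_left (zpowers_le.2 hn)).1 h
  obtain ⟨j, rfl | rfl⟩ := Int.even_or_odd' k
  · exact Or.inl (mul_mem ha (H5.mem_of_eq (zpow_mem h2 j) (by simp [zpow_mul, sq])))
  · exact Or.inr (H5.mem_of_eq (mul_mem ha (zpow_mem h2 (j + 1))) (by rw [← zpow_two]; group))

theorem cen2 (hA : A ≤ Cen A) (h2 : IsPGroup 2 A) (hY : Odd (Nat.card Y)) (n : A ≤ Nor Y)
    (nZ : A ≤ Nor Z) (sq : ∀ a ∈ A, a * a ∈ Z) (h : ∀ a ∈ A, a ∉ Z → Y ⊓ Cen1 a ≤ K) {u v : G}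
    (hu : u ∈ A) (hv : v ∈ A) (u1 : u ∉ Z) (v1 : v ∉ Z) (w1 : u * v ∉ Z) : Y ≤ K := by
  refine H5.le_of_cocyclic (H5.isMulCommutative_of_forall fun a ha => GW.cen.1 (hA ha)) n
    (cop2 h2 hY) fun B hB ⟨a, ha, e⟩ => ?_
  by_cases b : B ≤ Z
  · have k := fun x hx => mem_sup_zp (g := x) (nZ ha) (sq a ha) (sup_le_sup_right b _ (e.ge hx))
    refine (w1 ((mul_mem_cancel_right (sq a ha)).1 (H5.mem_of_eq (mul_mem ((k u hu).resolve_left u1)
      ((k v hv).resolve_left v1)) ?_))).elim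
    rw [mul_assoc u, ← mul_assoc a, GW.cen.1 (hA ha) v hv]; group
  obtain ⟨b, hb, b1⟩ := SetLike.not_le_iff_exists.1 b
  exact (inf_le_inf_left _ fun y hy => c1.2 (GW.cen.1 hy b hb)).trans (h b (hB hb) b1)

theorem cen3 (hS : IsPGroup 2 S) (hY : Odd (Nat.card Y)) (n : S ≤ Nor Y) (ZS : Z ≤ S)
    (zc : Z ≤ Cen S) (sq : ∀ a ∈ S, a * a ∈ Z) (h4 : 4 < Z.relIndex S)
    (h : ∀ a ∈ S, a ∉ Z → Y ⊓ Cen1 a ≤ Cen S) : Y ≤ Cen S := by
  classical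
  have nZ := cnor (le_cen_symm zc)
  obtain ⟨x, y, w, h1, h2, h3, h4, h5, h6, h7⟩ : ∃ x y w : S, (x : G) ∉ Z ∧ (y : G) ∉ Z ∧
      (w : G) ∉ Z ∧ (x * y : G) ∉ Z ∧ (x * w : G) ∉ Z ∧ (y * w : G) ∉ Z ∧ (x * (y * w) : G) ∉ Z := by
    obtain ⟨X, _, _, f, hf, hk⟩ := exists_quo nZ
    rw [relIndex, ← hk, index_ker, MonoidHom.range_eq_top.2 hf, card_top] at h4
    have := Fintype.ofFinite X
    have k : ∀ s : Finset X, s.card ≤ 4 → ∃ x : S, f x ∉ s := fun s hs => by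
      obtain ⟨x, -, hx⟩ := Finset.exists_mem_notMem_of_card_lt_card (s := s) (t := Finset.univ)
        (by rw [Finset.card_univ, ← Nat.card_eq_fintype_card]; omega)
      obtain ⟨x, rfl⟩ := hf x
      exact ⟨x, hx⟩
    obtain ⟨x, hx⟩ := k {1} (by simp)
    obtain ⟨y, hy⟩ := k {1, (f x)⁻¹} (Finset.card_le_two.trans (by simp))
    obtain ⟨w, hw⟩ := k {1, (f x)⁻¹, (f y)⁻¹, (f (x * y))⁻¹} Finset.card_le_four
    simp only [Finset.mem_insert, Finset.mem_singleton, not_or, ← mul_eq_one_iff_eq_inv', ← map_mul,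
      H5.map_eq_one_iff_of_ker hk, mul_assoc] at hx hy hw
    exact ⟨x, y, w, hx, hy.1, hw.1, hy.2, hw.2.1, hw.2.2⟩
  refine H5.le_of_cocyclic (H5.isMulCommutative_of_forall fun a ha b hb => GW.cen.1 (zc ha) b (ZS hb))
    (ZS.trans n) (cop2 (hS.to_le ZS) hY) fun B hB ⟨c, hc, e⟩ => ?_
  have SB : S ≤ Cen B := le_cen_symm (hB.trans zc)
  obtain ⟨X, _, _, f, hf, hk⟩ := exists_quo (cnor (le_refl (Cen B)))
  have d : Y ⊓ Cen B ⊓ B = ⊥ := (inf_comm _ _).trans (two_odd (hS.to_le (hB.trans ZS))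
    (odd_of_le inf_le_left hY))
  have n' : S ≤ Nor (Y ⊓ Cen B) := ninf n (lnor SB)
  refine commutator_eq_bot_iff_le_centralizer.1 (eq_bot_iff.2 (d ▸ le_inf (com_l n')
    ((H5.commutator_le_iff_im hk inf_le_right SB).2 ?_)))
  have mZ : ∀ a : Cen B, f a ∈ im f Z ↔ (a : G) ∈ Z := fun a => by
    rw [← H5.coe_mem_pre, H5.pre_im_of_le hk hB (ZS.trans SB)]
  have key : ∀ u v : S, (u : G) ∉ Z → (v : G) ∉ Z → (u * v : G) ∉ Z → ⁅(u : G), (v : G)⁆ ∈ B →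
      im f (Y ⊓ Cen B) ≤ Cen (im f S) := fun u v u1 v1 w1 e => by
    have a : V4 (f ⟨u, SB u.2⟩) (f ⟨v, SB v.2⟩) ≤ im f S :=
      V_le (H5.mem_im_of_mem _ u.2) (H5.mem_im_of_mem _ v.2)
    have e' := commutatorElement_eq_one_iff_mul_comm.1 ((map_commutatorElement f _ _).symm.trans
      ((H5.map_eq_one_iff_of_ker hk (x := ⁅⟨u, SB u.2⟩, ⟨v, SB v.2⟩⁆)).2 e))
    refine cen2 (Z := im f Z) ((V_le (mem_inf.2 ⟨c1.2 rfl, c1.2 e'⟩) (mem_inf.2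
      ⟨c1.2 e'.symm, c1.2 rfl⟩)).trans (cen_V _ _).ge)
      ((H5.isPGroup_im hS).to_le a) ((odd_of_le inf_le_left hY).of_dvd_nat (H5.card_im_dvd _))
      (a.trans (H5.im_le_normalizer n')) (a.trans (H5.im_le_normalizer nZ)) (fun b hb => ?_)
      (fun b hb b1 => ?_) (t_V _ _) (a_V _ _) (mt (mZ _).1 u1) (mt (mZ _).1 v1)
      (map_mul f _ _ ▸ mt (mZ _).1 w1) <;> obtain ⟨b, hb', rfl⟩ := a hb
    · exact map_mul f _ _ ▸ (mZ _).2 (sq _ hb')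
    rw [← H5.im_inf_centralizer_singleton hk b.2 (n' hb') (by rw [d, card_bot]; simp)]
    exact H5.im_le_centralizer ((inf_le_inf_right _ inf_le_left).trans (h _ hb' (mt (mZ _).2 b1)))
  have m : ∀ u ∈ S, ∀ v ∈ S, ⁅u, v⁆ ∈ Z := fun u hu v hv => BS.Sq_le_iff.2 sq (BS.comm_mem_Sq hu hv)
  have o : ∀ v ∈ S, ⁅(x : G), v⁆ * ⁅(x : G), v⁆ = 1 := fun v hv => by
    rw [← commutatorElement_eq_one_iff_mul_comm.2 (GW.cen.1 (zc (sq x x.2)) v hv)]
    nth_rewrite 1 [← mul_inv_cancel_right ⁅(x : G), v⁆ x, GW.cen.1 (zc (m x x.2 v hv)) x x.2]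
    simp only [commutatorElement_def]; group
  have o' : ∀ v (hv : v ∈ S), ⁅(x : G), v⁆ ∉ B → f ⟨_, SB (ZS (m x x.2 v hv))⟩ ∈
      zpowers (f ⟨c, SB (ZS hc)⟩) ∧ orderOf (f ⟨_, SB (ZS (m x x.2 v hv))⟩) = 2 := fun v hv e =>
    ⟨by
      rw [← H5.im_zpowers, ← bot_sup_eq (im f _), ← H5.im_ker hk, ← H5.im_sup (hB.trans (ZS.trans SB))
        (zpowers_le.2 (SB (ZS hc))), ‹B ⊔ zpowers c = Z›]
      exact (mZ _).2 (m x x.2 v hv), o2 (by rw [← map_mul, ← f.map_one]; exact congrArg f (Subtype.ext (o v hv)))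
      (mt (H5.map_eq_one_iff_of_ker hk).1 e)⟩
  by_cases e1 : ⁅(x : G), (y : G)⁆ ∈ B
  · exact key x y h1 h2 h4 e1
  by_cases e2 : ⁅(x : G), (w : G)⁆ ∈ B
  · exact key x w h1 h3 h5 e2
  refine key x (y * w) h1 h6 h7 (H5.mem_of_eq ((H5.map_eq_one_iff_of_ker hk (x := ⟨_, SB (ZS
    (m x x.2 y y.2))⟩ * ⟨_, SB (ZS (m x x.2 w w.2))⟩)).1 ?_) ?_)
  · rw [map_mul, inv_uniq (o' y y.2 e1).1 (o' w w.2 e2).1 (o' y y.2 e1).2 (o' w w.2 e2).2,
      ii (o' w w.2 e2).2]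
  change ⁅(x : G), (y : G)⁆ * ⁅(x : G), (w : G)⁆ = _
  rw [← mul_inv_cancel_right ⁅(x : G), (w : G)⁆ y, GW.cen.1 (zc (m x x.2 w w.2)) y y.2]
  simp only [commutatorElement_def, coe_mul]; group

theorem gen (hS : IsSylowOf 2 S H) (hg : pGenIn 2 H = H) (n : H ≤ Nor K) (e : S ≤ K) : H ≤ K :=
  hg.ge.trans (pGenIn_le_of_relIndex n (Nat.coprime_two_right.2 (Nat.odd_iff.2
    (Nat.two_dvd_ne_zero.1 fun d => hS.not_dvd (d.trans (relIndex_dvd_of_le_left H e))))))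

theorem CE.res {X : Type*} [Group X] [Finite X] [Group.IsPerfect X] {f : H →* X} (h : CE f) :
    CE (f.comp (inclusion (com_l le_normalizer))) ∧ Group.IsPerfect (⁅H, H⁆ : Subgroup G) := by
  have s := surj_comm f h.surj Group.IsPerfect.commutator_eq_top
  have m : ∀ y : commutator H, y.1.1 ∈ ⁅H, H⁆ := fun y =>
    map_subtype_commutator H ▸ mem_map_of_mem _ y.2
  refine ⟨⟨fun x => (s x).elim fun y e => ⟨⟨_, m y⟩, e⟩, fun z hz g => Subtype.ext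
    (congrArg H.subtype (h.cen _ hz (inclusion (com_l le_normalizer) g)))⟩, isPerfect_iff.2
      (le_antisymm (com_l le_normalizer) (commutator_le.2 fun x hx y hy => ?_))⟩
  obtain ⟨x', e⟩ := s (f ⟨x, hx⟩)
  obtain ⟨y', e'⟩ := s (f ⟨y, hy⟩)
  exact H5.mem_of_eq (commutator_mem_commutator (m x') (m y')) (congrArg H.subtype (h.cmm e e'))

theorem CE.eqv {L X X' : Type*} [Group L] [Group X] [Group X'] {π : L →* X} (h : CE π)
    (e : X ≃* X') : CE (e.toMonoidHom.comp π) :=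
  ⟨e.surjective.comp h.surj, fun z hz => h.cen z (e.map_eq_one_iff.1 hz)⟩

theorem sl25 {L X : Type u} [Group L] [Finite L] [Group X] [Finite X] [IsSimpleGroup X]
    {π : L →* X} (h : CE π) [Group.IsPerfect L] (two : IsPGroup 2 π.ker) (ne : π.ker ≠ ⊥)
    {R Q D : Subgroup X} {t s : X} (hyp : BS.Hyp R Q D t) (hQ : IsSylowOf 2 Q ⊤)
    (hF : BS.Fg Q t = ⊤) (c : BS.CaseA Q t s) :
    Nonempty (L ≃* Matrix.SpecialLinearGroup (Fin 2) (ZMod 5)) := by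
  have a := hyp.toA1
  have h3 := hyp.a3
  obtain ⟨z, hz, zz, z1, -⟩ := H5.Dich.exists_central two ne
  obtain ⟨k, hk⟩ := a.exists_K_gen h3
  have kN := a.K_le_nor_Q (hk ▸ mem_zpowers k)
  have sz := a.suz h3 hk le_rfl BS.A1.Q0_le_Q hQ.isPGroup kN
  obtain ⟨e, -, F, _, _, hF', c⟩ := c
  rw [e] at sz hF'
  have oQ : Odd Q.index := Nat.odd_iff.2 (Nat.two_dvd_ne_zero.1 (relIndex_top_right Q ▸ hQ.not_dvd))
  have c4 : Nat.card Q = 2 ^ 2 := by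
    obtain ⟨n, h1, h2⟩ := sz.exists_card
    by_contra h4
    obtain ⟨F, _, _, _, hF⟩ := sz.exists_field
    obtain ⟨φ, ω, c⟩ := sz.coordZ hF
    obtain ⟨b, -, hb⟩ := ex4 (s := (Set.univ : Set F)) (by
      rw [Nat.card_congr (Equiv.Set.univ F), Nat.card_eq_fintype_card, hF, h2]
      exact Nat.pow_lt_pow_right (m := 2) one_lt_two (h1.lt_of_ne' fun e => h4 (e ▸ h2)))
    have h2 : (2 : F) = 0 := CharTwo.two_eq_zero
    refine z1 (h.two oQ a.odd (le_top.trans (normalizer_eq_top ⊥).ge) (fun u x hu _ => h.cen u hu x)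
      c.add c.ker bot_le c.surj hb (fun d hd => ?_) h2 hz Group.IsPerfect.mem_commutator zz)
    obtain ⟨n, rfl⟩ := c.gen d (by rintro rfl; grind)
    exact ⟨k ^ n, a.K_le_D h3 (hk ▸ npow_mem_zpowers k n), pow_mem kN n, fun x hx => c.conj_pow hx n⟩
  obtain ⟨φ⟩ := hyp.equiv_of_cquot c
  obtain ⟨ψ⟩ := psl60 (G := X) (by
    rw [← card_top, ← hF, Nat.card_congr φ.toEquiv, card_psl_even (hF'.trans c4), hF', c4]; rfl)
  have : Fact (Nat.Prime 5) := ⟨Nat.prime_five⟩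
  refine cover_sl2 (F := ZMod 5) (by rw [ZMod.card]; decide) (by rw [ZMod.card]; decide)
    _ (h.eqv ψ).surj (o2 zz z1) (h.cen z hz) ?_ Group.IsPerfect.commutator_eq_top
  rw [← MonoidHom.comap_ker, (MonoidHom.ker_eq_bot_iff _).2 ψ.injective, MonoidHom.comap_bot]
  obtain ⟨x, hx, y, hy, x1, y1, xy, xx, yy⟩ := h3
  obtain ⟨x, rfl⟩ := h.surj x
  obtain ⟨y, rfl⟩ := h.surj y
  have k : ∀ w ∈ π.ker, w = 1 ∨ w = ⁅x, y⁆ := fun w hw => by
    obtain ⟨j, hj⟩ := two.exists_orderOf_eq_pow ⟨w, hw⟩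
    have := h.tr hw Group.IsPerfect.mem_commutator (M := Q) (by
      rw [← orderOf_coe] at hj; exact hj ▸ (Nat.coprime_two_left.2 oQ).pow_left j)
    rw [← eq_of_le_of_card_ge (V_le hx hy) (c4.le.trans (Hz.four_le_card (t_V _ _) (a_V _ _) ⟨x1, xx⟩
      ⟨y1, yy⟩ xy (sz.Z_cen hx hy))), V4, ← MonoidHom.map_zpowers π y,
      ← map_comap_eq_self_of_surjective h.surj (zpowers (π x)), ← Subgroup.map_sup,
      comap_map_eq_self ((ker_le_comap _ _).trans le_sup_left)] at this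
    obtain ⟨u, hu, rfl⟩ := comm_ext (A := comap π (zpowers (π x))) (fun u hu v hv => hu.elim fun i hu => hv.elim
      fun j hv => h.cm ((map_zpow π x i).trans hu) ((map_zpow π x j).trans hv)
        (Commute.zpow_zpow_self x i j))
      (le_normalizer_comap π (mem_comap.2 (mzp (c1.2 (sz.Z_cen hy hx))))) this
    exact (mem_zp2 xx hu).imp (fun e => commutatorElement_eq_one_iff_mul_comm.2 (h.cen u e y).symm)
      fun e => h.cmm e rfl
  refine le_antisymm (fun w hw => ?_) (zpowers_le.2 hz)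
  rcases k w hw with e | e
  · exact e ▸ one_mem _
  · exact e ▸ (k z hz).resolve_left z1 ▸ mem_zpowers z

namespace Sec

variable {X : Type u} [Group X] [Finite X] {f : H →* X} {D : Subgroup X} {t : X}
  (s : Sec S H N f D t) (hS : IsSylowOf 2 S H) (hg : pGenIn 2 H = H)
  (hc : S ⊓ Opp 2 H ≤ Cen S)
include s hS hg hc

theorem fg : BS.Fg (im f S) t = ⊤ := by
  have := s.hyp.Fg_normal
  rw [eq_top_iff, ← H5.im_self s.surj, H5.im_le_iff le_rfl]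
  exact gen hS hg (H5.le_normalizer_pre le_rfl le_normalizer_of_normal)
    ((H5.im_le_iff hS.le).1 le_sup_left)

theorem simple : IsSimpleGroup X :=
  have : IsSimpleGroup (⊤ : Subgroup X) := s.fg hS hg hc ▸ s.hyp.simple_Fg
  topEquiv.symm.isSimpleGroup

theorem na : ¬ IsMulCommutative X := fun e => s.hyp.toA1.Q_ne_bot
  (s.hyp.eq_bot_of_normal s.hyp.toA1.Q_le)

theorem cB : H ≤ Oo H ⊔ (H ⊓ Cen (S ⊓ Opp 2 H : Subgroup G)) :=
  gen hS hg ((fratt hS).trans (sup_le (lnor le_sup_left) (nsup (inf_le_left.trans (lOo H))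
    (ninf (lnor inf_le_left) (ncen inf_le_right)))))
    (le_sup_of_le_right (le_inf hS.le (le_cen_symm hc)))

theorem N_le : N ≤ Oo H ⊔ S ⊓ Opp 2 H := by
  refine (le_inf (s.le.trans (s.cB hS hg hc)) le_rfl).trans ?_
  rw [H5.sup_inf_of_le_normalizer (inf_le_left.trans (lOo H)) ((pPrimeCoreIn_le_Opp 2 H).trans s.opp)]
  exact sup_le le_sup_left ((le_inf inf_le_right (inf_le_left.trans inf_le_right)).trans
    (kl hS s.le s.nor s.two))

theorem le_sup : H ≤ S ⊓ Opp 2 H ⊔ ⁅H, H⁆ ⊔ Oo H := by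
  have := s.simple hS hg hc
  refine ((H5.im_le_im_iff s.ker s.le le_rfl (com_l le_normalizer)).1 ?_).trans (sup_le
    (le_sup_of_le_left le_sup_right) ((s.N_le hS hg hc).trans (sup_le le_sup_right
      (le_sup_of_le_left le_sup_left))))
  rw [H5.im_commutator le_rfl le_rfl, H5.im_self s.surj]
  exact (H8.commutator_eq_top_of_simple (s.na hS hg hc)).ge

theorem ocen (h : CI H) (nb : ¬ IsMulCommutative (im f S))
    (h4 : Nat.card (BS.Q0 (im f S)) * 4 < Nat.card (im f S)) : Oo H ≤ Cen S := by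
  have a := s.hyp.toA1
  have h3 := s.hyp.a3
  have n := hS.le.trans (lOo H)
  have hC : ∀ a ∈ S, a ∉ Cen S → Oo H ⊓ Cen1 a ≤ Cen S := fun a ha a1 => le_trans (fun y hy => mem_inf.2 ⟨hy.1,
    mem_normalizer_of_conjS_le (h.le hS ha a1 (hS.map_conj (le_normalizer (Oo_le H hy.1))).isPGroup
      (hS.map_conj (le_normalizer (Oo_le H hy.1))).le (c1'.1 hy.2 ▸ conj_mem_conjS ha))⟩)
    (H5.SS.le_cen_of_disjoint inf_le_right (ninf n (lnor le_normalizer))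
      ((inf_comm _ _).trans (two_odd hS.isPGroup (odd_of_le inf_le_left (odd_Oo H)))))
  obtain ⟨k, hk⟩ := a.exists_K_gen h3
  have kN := a.K_le_nor_Q (hk ▸ mem_zpowers k)
  have sz := a.suz h3 hk le_rfl BS.A1.Q0_le_Q s.concl.two kN
  replace nb : ¬ BS.Ab (im f S) := mt BS.ab_iff.1 nb
  have mQ : ∀ x : H, (x : G) ∈ S → f x ∈ im f S := fun x hx => H5.mem_im_of_mem x.2 hx
  have mZ : ∀ x : H, (x : G) ∈ S → (x : G) ∈ Cen S → f x ∈ BS.Q0 (im f S) := fun x hx m =>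
    sz.mem_of_cen nb (mQ _ hx) (GW.cen.1 (H5.im_centralizer_le S (H5.mem_im_of_mem x.2 m)))
  by_cases e : S ⊓ Cen S ≤ S ⊓ Opp 2 H
  · obtain ⟨_, ⟨u, hu, rfl⟩, _, ⟨v, hv, rfl⟩, u1, v1, uv, uu, vv⟩ := h3
    let π := (f.comp (inclusion hS.le)).codRestrict (im f S) fun x => mQ _ x.2
    have hπ : CE π := ⟨by rintro ⟨_, x, hx, rfl⟩; exact ⟨⟨x, hx⟩, rfl⟩, fun z hz g => Subtype.ext
      (GW.cen.1 (hc ((s.one hS (x := ⟨z, hS.le z.2⟩) z.2).1 (congrArg Subtype.val hz))) g g.2).symm⟩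
    refine cen2 (A := S ⊓ pre f (BS.Q0 (im f S))) (fun x hx => GW.cen.2 fun y hy => congrArg
      Subtype.val (hπ.abZ (Q := ⊤) (Z := (BS.Q0 (im f S)).subgroupOf _) (u := ⟨x, hx.1⟩)
        (v := ⟨y, hy.1⟩) (fun z hz => ⟨Subtype.ext (sz.Z_sq hz), ?_⟩)
        (fun z hz y _ => Subtype.ext (sz.Z_cen hz y.2).symm) (H5.mem_pre.1 hx.2).2
        (H5.mem_pre.1 hy.2).2)) hS.isPGroup.to_inf_left (odd_Oo H) (inf_le_left.trans n)
      (inf_le_left.trans (cnor (le_cen_symm hc))) (fun x hx => (s.one hS (x := ⟨x, hS.le hx.1⟩ *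
        ⟨x, hS.le hx.1⟩) (mul_mem hx.1 hx.1)).1 (map_mul f _ _ ▸ sz.Z_sq (H5.mem_pre.1 hx.2).2))
      (fun x hx x1 => hC x hx.1 fun m => x1 (e ⟨hx.1, m⟩))
      ⟨hu, H5.coe_mem_pre.2 (BS.A1.mem_Q0_of (mQ u hu) uu)⟩
      ⟨hv, H5.coe_mem_pre.2 (BS.A1.mem_Q0_of (mQ v hv) vv)⟩ (mt (s.one hS hu).2 u1)
      (mt (s.one hS hv).2 v1) (mt (s.one hS (x := u * v) (mul_mem hu hv)).2 fun e => uv ?_)
    · by_cases z1 : z = 1
      · exact ⟨1, mem_top _, by rw [z1, mul_one]⟩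
      obtain ⟨x, hx, x1⟩ := SetLike.not_le_iff_exists.1 (mt sz.abZ.of_le nb)
      obtain ⟨n, e⟩ := sz.tr _ (sz.sq_mem nb hx) _ hz (fun e => x1 ((sz.memZ x).2 ⟨hx, e⟩))
        fun e => z1 (Subtype.ext e)
      exact ⟨⟨_, cmem (pow_mem kN n) hx⟩, mem_top _, Subtype.ext (conj_mul.trans e.symm)⟩
    · exact mul_right_cancel (((map_mul f u v).symm.trans e).trans vv.symm)
  obtain ⟨z, hz, z1⟩ := SetLike.not_le_iff_exists.1 e
  have e1 := a.Q0_le_of h3 (H5.im_mono (inf_le_left : S ⊓ Cen S ≤ S)) (fun k hk => by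
    obtain ⟨y, hy, rfl⟩ := s.lift hS hc (a.Kg_le_Fg hk) (a.K_le_nor_Q hk)
    exact H5.im_le_normalizer (ninf le_rfl (ncen le_rfl)) (H5.mem_im_of_mem y.2 hy.1))
    (BS.even_of_inv (H5.mem_im_of_mem (hS.le hz.1) hz) (mt (s.one hS hz.1).1 z1)
      (sz.Z_sq (mZ _ hz.1 hz.2)))
  refine cen3 (Z := S ⊓ pre f (BS.Q0 (im f S))) hS.isPGroup (odd_Oo H) n inf_le_left
    (fun x hx => ?_) (fun x hx => ⟨mul_mem hx hx, (H5.coe_mem_pre (x := ⟨x, hS.le hx⟩ *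
      ⟨x, hS.le hx⟩)).2 (map_mul f _ _ ▸ sz.sq_mem nb (mQ _ hx))⟩) ?_
    fun x hx x1 => hC x hx fun m => x1 ⟨hx, H5.mem_pre.2 ⟨hS.le hx, mZ _ hx m⟩⟩
  · obtain ⟨c, hc', e2⟩ := e1 (H5.mem_pre.1 hx.2).2
    exact H5.mem_of_eq (mul_mem (hc ((s.one hS (x := ⟨x, hS.le hx.1⟩ * c⁻¹) (mul_mem hx.1
      (inv_mem hc'.1))).1 (by rw [map_mul, map_inv, e2, mul_inv_cancel]))) hc'.2) (by simp)
  rw [inf_relIndex_left, ← relIndex_subgroupOf hS.le, H5.pre_subgroupOf, relIndex_comap]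
  exact Nat.lt_of_mul_lt_mul_left (h4.trans_eq (H5.card_mul_relIndex BS.A1.Q0_le_Q).symm)

theorem main (e : Oo H ≤ Cen S) : H ≤ Cen (S ⊓ Opp 2 H : Subgroup G) ∧ CE f ∧
    S ⊓ Opp 2 H ⊔ ⁅H, H⁆ = H := by
  have c := (s.cB hS hg hc).trans (sup_le (e.trans (centralizer_anti inf_le_left)) inf_le_right)
  have o := le_cen_symm (gen hS hg (ncen (lOo H)) (le_cen_symm e))
  refine ⟨c, ⟨s.surj, fun z hz g => Subtype.ext (GW.cen.1 (sup_le o (le_cen_symm c) (s.N_le hS hg hc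
    ((H5.map_eq_one_iff_of_ker s.ker).1 hz))) g g.2).symm⟩, le_antisymm (sup_le (inf_le_left.trans
      hS.le) (com_l le_normalizer)) (hg.ge.trans (pGenIn_le_of_le_sup ((Oo_le H).trans (nsup (cnor c)
        (ncom le_normalizer le_normalizer))) (odd_iff_cop.1 (odd_Oo H)) (s.le_sup hS hg hc)))⟩

theorem sl (na : ¬ S ≤ Cen S) {r : X} (c : BS.CaseA (im f S) t r) [((Oo H).subgroupOf H).Normal] :
    ∃ A L : Subgroup (H ⧸ (Oo H).subgroupOf H), IsMulCommutative A ∧ IsPGroup 2 A ∧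
      Nonempty (L ≃* Matrix.SpecialLinearGroup (Fin 2) (ZMod 5)) ∧
      (∀ a ∈ A, ∀ l ∈ L, a * l = l * a) ∧ A ⊔ L = ⊤ := by
  have := s.simple hS hg hc
  have : Group.IsPerfect X := ⟨H8.commutator_eq_top_of_simple (s.na hS hg hc)⟩
  let φ := QuotientGroup.mk' ((Oo H).subgroupOf H)
  have hφ : Function.Surjective φ := QuotientGroup.mk'_surjective _
  have hk : φ.ker = (Oo H).subgroupOf H := QuotientGroup.ker_mk' _
  have BH : S ⊓ Opp 2 H ≤ H := inf_le_left.trans hS.le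
  have cA : ⊤ ≤ Cen (im φ (S ⊓ Opp 2 H)) := by
    rw [← H5.im_self hφ]
    exact ((H5.im_le_im_iff hk (Oo_le H) le_rfl inf_le_left).2 ((s.cB hS hg hc).trans
      (sup_comm _ _).le)).trans (H5.im_le_centralizer inf_le_right)
  let g : H ⧸ (Oo H).subgroupOf H →* X := QuotientGroup.lift _ f fun x hx =>
    (H5.map_eq_one_iff_of_ker s.ker).2 (s.opp (pPrimeCoreIn_le_Opp 2 H hx))
  have kg : ∀ z, g z = 1 → z ∈ im φ (S ⊓ Opp 2 H) := fun z hz => by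
    obtain ⟨z, rfl⟩ := hφ z
    exact (H5.im_le_im_iff hk (Oo_le H) s.le BH).2 ((s.N_le hS hg hc).trans (sup_comm _ _).le)
      (H5.mem_im_of_mem z.2 ((H5.map_eq_one_iff_of_ker s.ker).1 hz))
  obtain ⟨h1, h2⟩ := CE.res (f := g.comp (⊤ : Subgroup _).subtype) ⟨fun x => (s.surj x).elim
    fun y e => ⟨⟨φ y, mem_top _⟩, e⟩, fun z hz y => Subtype.ext (GW.cen.1 (cA y.2) _ (kg _ hz))⟩
  have A2 := H5.isPGroup_im (f := φ) (hS.isPGroup.to_inf_left (K := Opp 2 H))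
  refine ⟨im φ (S ⊓ Opp 2 H), ⁅⊤, ⊤⁆, H5.isMulCommutative_of_forall fun a _ => GW.cen.1 (cA trivial),
    A2, sl25 h1 (fun z => (A2 ⟨_, kg _ z.2⟩).imp fun k e => by
      simpa [Subtype.ext_iff] using e) (fun e => na fun x hx => GW.cen.2 fun y hy => ?_) s.hyp
      (H5.im_self s.surj ▸ hS.im le_rfl) (s.fg hS hg hc) c,
    fun a ha l _ => (GW.cen.1 (cA (mem_top l)) a ha).symm, eq_top_iff.2 ?_⟩
  · have m : (⟨⁅φ ⟨x, hS.le hx⟩, φ ⟨y, hS.le hy⟩⁆, commutator_mem_commutator trivial trivial⟩ :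
        (⁅⊤, ⊤⁆ : Subgroup _)) ∈ (⊥ : Subgroup _) := e ▸ (map_commutatorElement g
        (φ ⟨x, hS.le hx⟩) (φ ⟨y, hS.le hy⟩)).trans (commutatorElement_eq_one_iff_mul_comm.2 (s.hyp.toA1.Q_le_cen_Q0 s.hyp.a3
        (H5.mem_im_of_mem _ hy) _ (c.1.ge (H5.mem_im_of_mem _ hx))))
    refine commutatorElement_eq_one_iff_mul_comm.1 (mem_bot.1 (two_odd hS.isPGroup (odd_Oo H) ▸
      mem_inf.2 ⟨BS.comm_mem_of_mem hx hy, (H5.map_eq_one_iff_of_ker hk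
        (x := ⁅(⟨x, hS.le hx⟩ : H), ⟨y, hS.le hy⟩⁆)).1 ?_⟩))
    rw [map_commutatorElement]
    exact congrArg Subtype.val (mem_bot.1 m)
  rw [← H5.im_self hφ, ← H5.im_commutator le_rfl le_rfl, ← H5.im_sup BH (com_l le_normalizer),
    H5.im_le_im_iff hk (Oo_le H) le_rfl (sup_le BH (com_l le_normalizer))]
  exact s.le_sup hS hg hc

end Sec

end

end W
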