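import Cfsg.Agent.W.Gen

/-! Central Sylow 2-intersections: local theory. -/

set_option autoImplicit false
set_option linter.unusedSectionVars false
set_option linter.unusedVariables false

namespace W

open Cfsg Subgroup FT H4 GW
open H5 (IsSylowOf im pre)

universe u

section
variable {G : Type*} [Group G] [Finite G] {S T H K M N B P Y : Subgroup G}

theorem mem_Om (hA : ∀ x ∈ S, x * x = 1 → x ∈ Cen S) {x : G} : x ∈ Om S ↔ x ∈ S ∧ x * x = 1 := by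
  refine ⟨fun hx => ?_, fun hx => subset_closure hx⟩
  induction hx using closure_induction with
  | mem x hx => exact hx
  | one => exact ⟨one_mem _, mul_one _⟩
  | mul x y _ _ hx hy => exact ⟨mul_mem hx.1 hy.1, by
      rw [mul_assoc, ← mul_assoc y, GW.cen.1 (hA y hy.1 hy.2) x hx.1, mul_assoc, hy.2, mul_one, hx.2]⟩
  | inv x _ hx => exact ⟨inv_mem hx.1, by rw [← mul_inv_rev, hx.2, inv_one]⟩

/-- the shape of `S` over the kernel `B` of a Bender section -/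
structure TK (S B : Subgroup G) : Prop where
  le : B ≤ S
  cen : B ≤ Cen S
  sq1 : ∀ x ∈ S, x * x ∈ B → x ∈ Cen S
  sq2 : ∀ x ∈ S, x ∈ Cen S → x * x ∈ B
  sq3 : ∀ x ∈ S, x * x ∈ Cen S
  reg : ∃ Y ≤ Nor S ⊓ Cen B, (∀ y ∈ Y, ∀ z ∈ Y, ∀ a ∈ Om S,
    y * (z * a * z⁻¹) * y⁻¹ * (z * (y * a * y⁻¹) * z⁻¹)⁻¹ ∈ B) ∧
    ∀ a ∈ Om S, a ∉ B → ∀ b ∈ Om S, b ∉ B → ∃ y ∈ Y, y * a * y⁻¹ * b⁻¹ ∈ B
  card : ∃ q, 4 ≤ q ∧ Nat.card (Om S) = q * Nat.card (Om S ⊓ B : Subgroup G) ∧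
    (Nat.card S = q ^ 2 * Nat.card B ∨ Nat.card S = q ^ 3 * Nat.card B)

theorem nOm (S : Subgroup G) : Nor S ≤ Nor (Om S) := fun g hg => mnor fun x hx => by
  induction hx using closure_induction with
  | mem x hx => exact subset_closure ⟨cmem hg hx.1, csq hx.2⟩
  | one => simp
  | mul x y _ _ hx hy => exact H5.mem_of_eq (mul_mem hx hy) conj_mul
  | inv x _ hx => exact H5.mem_of_eq (inv_mem hx) conj_inv

theorem TK.conj (h : TK S B) {g : G} (hg : g ∈ Nor S) : TK S (conjS g B) := by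
  have e := mem_normalizer_iff_conjS.1 hg
  have c : ∀ x, x ∈ Cen S → g * x * g⁻¹ ∈ Cen S := fun x hx => cmem (mcen hg) hx
  have c' : ∀ x, x ∈ Cen S → g⁻¹ * x * g ∈ Cen S := fun x hx => cmem' (mcen hg) hx
  have sq : ∀ x : G, g⁻¹ * (x * x) * g = g⁻¹ * x * g * (g⁻¹ * x * g) := fun x => by group
  have o := nOm S hg
  obtain ⟨Y, h1, h2, h3⟩ := h.reg
  obtain ⟨q, h4, h5, h6⟩ := h.card
  refine ⟨e ▸ conjS_mono g h.le, ?_, fun x hx m => ?_, fun x hx m => ?_, h.sq3,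
    ⟨conjS g Y, ?_, fun y hy z hz a ha => ?_, fun a ha a1 b hb b1 => ?_⟩, q, h4, ?_,
    by rwa [card_conjS]⟩
  · rintro _ ⟨x, hx, rfl⟩
    exact c x (h.cen hx)
  · exact H5.mem_of_eq (c _ (h.sq1 _ (cmem' hg hx) (sq x ▸ mem_conjS.1 m))) (by group)
  · exact mem_conjS.2 (sq x ▸ h.sq2 _ (cmem' hg hx) (c' x m))
  · rw [← e, ← conj_nor, ← conj_cen, ← conjS_inf]
    exact conjS_mono g h1
  · exact mem_conjS.2 (H5.mem_of_eq (h2 _ (mem_conjS.1 hy) _ (mem_conjS.1 hz) _ (cmem' o ha))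
      (by group))
  · obtain ⟨y, hy, m⟩ := h3 _ (cmem' o ha) (mt mem_conjS.2 a1) _ (cmem' o hb) (mt mem_conjS.2 b1)
    exact ⟨_, conj_mem_conjS hy, mem_conjS.2 (H5.mem_of_eq m (by group))⟩
  · rw [h5, ← card_conjS g (Om S ⊓ B), conjS_inf, mem_normalizer_iff_conjS.1 o]

/-- central Sylow intersections -/
def CI (H : Subgroup G) : Prop :=
  ∀ S T, IsSylowOf 2 S H → IsSylowOf 2 T H → S ≠ T → S ⊓ T ≤ Cen S

/-- trivial intersections modulo `O_{2',2}` -/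
def TO (H : Subgroup G) : Prop :=
  ∀ S T, IsSylowOf 2 S H → IsSylowOf 2 T H → S ⊓ T ≤ Opp 2 H ∨ T ≤ S ⊔ Oo H

theorem syl_up (hS : IsSylowOf 2 S H) (h1 : S ≤ K) (h2 : K ≤ H) (hT : IsSylowOf 2 T K) :
    IsSylowOf 2 T H :=
  hS.of_card_le hT.isPGroup (hT.le.trans h2) (hT.card_le hS.isPGroup h1)

theorem CI.of_le (h : CI H) (hS : IsSylowOf 2 S H) (h1 : S ≤ K) (h2 : K ≤ H) : CI K :=
  fun P T hP hT => h P T (syl_up hS h1 h2 hP) (syl_up hS h1 h2 hT)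

theorem lift_syl {X : Type*} [Group X] [Finite X] {f : H →* X} (hf : Function.Surjective f)
    {T : Subgroup X} (hT : IsSylowOf 2 T ⊤) (hP : IsPGroup 2 P) (h : P ≤ pre f T) :
    ∃ T', IsSylowOf 2 T' H ∧ P ≤ T' ∧ im f T' = T := by
  obtain ⟨T', h1, h2⟩ := H5.exists_isSylowOf_ge hP h
  obtain ⟨S, hS⟩ := H5.exists_isSylowOf 2 H
  obtain ⟨k, -, e⟩ := (H5.im_self hf ▸ hS.im le_rfl : IsSylowOf 2 (im f S) ⊤).exists_conj hT
  obtain ⟨⟨k, hk⟩, rfl⟩ := hf k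
  have h3 := hS.map_conj (le_normalizer hk)
  have h4 := syl_up h3 ((H5.im_le_iff h3.le).1 ((H5.im_map_conj S hk).trans e).le) (H5.pre_le _) h1
  exact ⟨T', h4, h2, (H5.im_self hf ▸ h4.im le_rfl : IsSylowOf 2 (im f T') ⊤).eq_of_le hT.isPGroup
    ((H5.im_le_iff h4.le).2 h1.le) le_top |>.symm⟩

theorem CI.im (h : CI H) {X : Type*} [Group X] [Finite X] {f : H →* X}
    (hf : Function.Surjective f) : CI (⊤ : Subgroup X) := by
  intro S T hS hT ne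
  obtain ⟨S', h1, -, rfl⟩ := lift_syl hf hS IsPGroup.of_bot bot_le
  rintro _ ⟨⟨x, hx, rfl⟩, hx'⟩
  obtain ⟨T', h2, h3, rfl⟩ := lift_syl hf hT (h1.isPGroup.to_le (zpowers_le.2 hx))
    (zpowers_le.2 (H5.coe_mem_pre.2 hx'))
  exact H5.im_centralizer_le S' (H5.mem_im_of_mem x.2 (h _ _ h1 h2 (fun e => ne (e ▸ rfl))
    ⟨hx, h3 (mem_zpowers _)⟩))

theorem CI.le (h : CI H) (hS : IsSylowOf 2 S H) {x : G} (hx : x ∈ S) (hc : x ∉ Cen S)
    (hP : IsPGroup 2 P) (PH : P ≤ H) (xP : x ∈ P) : P ≤ S := by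
  obtain ⟨T, h1, h2⟩ := H5.exists_isSylowOf_ge hP PH
  by_contra e
  exact hc (h S T hS h1 (fun e' => e (e' ▸ h2)) ⟨hx, h2 xP⟩)

theorem CI.cen (h : CI H) (hS : IsSylowOf 2 S H) (hT : IsSylowOf 2 T H) {x : G} (hx : x ∈ S)
    (hx' : x ∈ T) (hc : x ∈ Cen T) : x ∈ Cen S :=
  (em (S = T)).elim (fun e => e ▸ hc) fun e => h S T hS hT e ⟨hx, hx'⟩

theorem CI.dih (h : CI (⊤ : Subgroup G)) (hS : IsSylowOf 2 S ⊤) (h0 : pCoreIn 2 (⊤ : Subgroup G) = ⊥)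
    {x : G} (hx : x ∈ S) (xx : x * x = 1) : x ∈ Cen S := by
  by_contra hc
  obtain ⟨z, hz, zz, z1, zc⟩ := H5.Dich.exists_central hS.isPGroup fun e =>
    hc (by rw [mem_bot.1 (e ▸ hx : x ∈ ⊥)]; exact one_mem _)
  have two : ∀ (y c : G) (k : ℕ), y * y = 1 → c ^ 2 ^ k = 1 → y * c * y = c⁻¹ →
      IsPGroup 2 (zpowers c ⊔ zpowers y : Subgroup G) := fun y c k yy hc e =>
    (isPGroup_zpowers_of_pow hc).to_sup_of_normal_left' (H5.Dich.pgroup_inv yy)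
      (zpowers_le.2 (mnor fun d hd => by
        obtain ⟨n, rfl⟩ := mem_zpowers_iff.1 hd
        rw [← conj_zpow, inv_eq_of_mul_eq_one_right yy, e]
        exact zpow_mem (inv_mem (mem_zpowers c)) n))
  have key : ∀ g : G, g * z * g⁻¹ ∈ S := fun g => by
    have aa : g * z * g⁻¹ * (g * z * g⁻¹) = 1 := csq zz
    have ac : ∀ k, k * (g * z * g⁻¹) * k⁻¹ ∈ S → k * (g * z * g⁻¹) * k⁻¹ ∈ Cen S := fun k hk => by
      rw [show k * (g * z * g⁻¹) * k⁻¹ = k * g * z * (k * g)⁻¹ by group] at hk ⊢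
      exact h.cen hS (hS.map_conj (g := k * g) (le_normalizer (mem_top _))) hk (conj_mem_conjS hz)
        (conj_cen (k * g) S ▸ conj_mem_conjS (cen_iff_le.2 zc))
    generalize g * z * g⁻¹ = a at aa ac
    obtain ⟨k, m, ⟨j, rfl⟩, e⟩ := Nat.exists_eq_two_pow_mul_odd (orderOf_pos (x * a)).ne'
    have pc : ((x * a) ^ (2 * j + 1)) ^ 2 ^ k = 1 := by
      rw [← pow_mul, mul_comm, ← e, pow_orderOf_eq_one]
    have ix := BS.inv_conj_pow xx (x := x * a) (by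
      rw [← mul_assoc, xx, one_mul, mul_inv_rev, inv_eq_of_mul_eq_one_right xx,
        inv_eq_of_mul_eq_one_right aa])
    have ia := BS.inv_conj_pow aa (x := x * a) (by
      rw [mul_assoc, mul_assoc, aa, mul_one, mul_inv_rev, inv_eq_of_mul_eq_one_right xx,
        inv_eq_of_mul_eq_one_right aa])
    have e1 : x * (x * a) ^ (2 * j + 1) = ((x * a) ^ j)⁻¹ * a * ((x * a) ^ j)⁻¹⁻¹ := by
      rw [inv_inv, ← ia j, mul_assoc _ a a, aa, mul_one, mul_assoc, ← pow_add, ← two_mul, pow_succ',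
        ← mul_assoc, ← mul_assoc, xx, one_mul]
    have m := h.le hS hx hc (two x _ k xx pc (ix _)) le_top (mem_sup_right (mem_zpowers x))
      (mem_sup_left (mem_zpowers _))
    refine h.le hS m (fun e => hc ?_) (two a _ k aa pc (ia _)) le_top
      (mem_sup_left (mem_zpowers _)) (mem_sup_right (mem_zpowers a))
    exact (mul_mem_cancel_right e).1 (e1 ▸ ac _ (e1 ▸ mul_mem hx m))
  exact z1 (mem_bot.1 (h0 ▸ le_pCoreIn le_top le_normalizer_of_normal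
    (hS.isPGroup.to_le (normalCore_le S)) key))

theorem fratt (hS : IsSylowOf 2 S H) : H ≤ Oo H ⊔ (H ⊓ Nor (S ⊓ Opp 2 H : Subgroup G)) := by
  have := (sylow_inf_Opp hS).sup_normalizer (Opp_le 2 H) (le_nor_Opp 2 H)
  rw [← sup_inf_eq_Opp hS, sup_assoc, sup_inf_eq_Opp hS] at this
  exact this.ge.trans (sup_le_sup_left (sup_le (le_inf (inf_le_left.trans hS.le) le_normalizer)
    le_rfl) _)

theorem kl (hS : IsSylowOf 2 S H) (NH : N ≤ H) (hn : H ≤ Nor N)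
    (h : ∀ R ≤ N, IsPGroup 2 R → R ≤ Opp 2 H) :
    N ⊓ Cen (S ⊓ Opp 2 H : Subgroup G) ≤ Oo H ⊔ S ⊓ Opp 2 H := by
  obtain ⟨P, hP⟩ := H5.exists_isSylowOf 2 (N ⊓ Cen (S ⊓ Opp 2 H : Subgroup G))
  have e : P ≤ S ⊓ Opp 2 H := (sylow_inf_Opp hS).le_of_le_normalizer' hP.isPGroup
    (h P (hP.le.trans inf_le_left) hP.isPGroup) (cnor (hP.le.trans inf_le_right))
  rw [← (Burnside_normal_complement hP ((inf_le_left.trans inf_le_right).trans
    (centralizer_anti e))).sup]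
  have o := (Oo_le (N ⊓ Cen (S ⊓ Opp 2 H : Subgroup G))).trans (inf_le_left.trans NH)
  refine sup_le_sup (le_sup_right.trans (GW.le_Oo (sup_le (Oo_le H) o) ((fratt hS).trans (sup_le
    (lnor le_sup_left) (nsup (inf_le_left.trans (lOo H)) ((ninf (inf_le_left.trans hn)
      (ncen inf_le_right)).trans (nOo _))))) ?_)) e
  rw [sup_comm]
  exact odd_sup (o.trans (lOo H)) (odd_Oo _) (odd_Oo _)

theorem lb_of (hS : IsSylowOf 2 S H) (NH : N ≤ H) (hn : H ≤ Nor N)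
    (h : ∀ R ≤ N, IsPGroup 2 R → R ≤ Opp 2 H) (hY : Y ≤ N) (ho : Odd (Nat.card Y))
    (n : S ≤ Nor Y) : Y ≤ Oo H := by
  rw [← cs (inf_le_left.trans n : S ⊓ Opp 2 H ≤ _) hS.isPGroup.to_inf_left ho]
  refine sup_le (U6.commutator_le_core inf_le_right (hY.trans NH) (odd_iff_cop.1 ho)
    (inf_le_left.trans n)) (le_pPrimeCoreIn_of_le_Opp (((inf_le_inf_right _ hY).trans
      (kl hS NH hn h)).trans (sup_inf_eq_Opp hS).le) (odd_iff_cop.1 (odd_of_le inf_le_left ho)))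

theorem CI.B_le (h : CI H) (hS : IsSylowOf 2 S H) (hn : ¬ S ≤ Opp 2 H) : S ⊓ Opp 2 H ≤ Cen S := by
  obtain ⟨n, h1, h2⟩ : ∃ n ∈ H ⊓ Nor (S ⊓ Opp 2 H : Subgroup G), n ∉ Nor S := by
    by_contra e
    push Not at e
    exact hn (le_Opp hS.le ((fratt hS).trans (sup_le (lnor le_sup_left)
      (nsup (inf_le_left.trans (lOo H)) e))) hS.isPGroup)
  refine le_trans (le_inf inf_le_left ?_) (h S _ hS (hS.map_conj (le_normalizer h1.1))
    fun e => h2 (mem_normalizer_iff_conjS.2 e.symm))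
  rw [← mem_normalizer_iff_conjS.1 h1.2]
  exact conjS_mono n inf_le_left

end

variable {G : Type u} [Group G] [Finite G] {S T H K M N B P Y : Subgroup G}

/-- the Bender section of a group with trivial Sylow intersections modulo `O_{2',2}` -/
structure Sec (S H N : Subgroup G) {X : Type u} [Group X] (f : H →* X) (D : Subgroup X) (t : X) :
    Prop where
  surj : Function.Surjective f
  ker : f.ker = N.subgroupOf H
  opp : Opp 2 H ≤ N
  le : N ≤ H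
  nor : H ≤ Nor N
  two : ∀ R ≤ N, IsPGroup 2 R → R ≤ Opp 2 H
  hyp : BS.Hyp (Nor (im f S)) (im f S) D t
  concl : BS.Concl (im f S) D t

theorem CI.sec (h : CI H) (h' : TO H) (hS : IsSylowOf 2 S H) (hn : ¬ S ≤ Opp 2 H) :
    ∃ (X : Type u) (_ : Group X) (_ : Finite X) (N : Subgroup G) (f : H →* X) (D : Subgroup X)
      (t : X), Sec S H N f D t := by
  obtain ⟨Y, _, _, φ, hφ, hk⟩ := exists_quo (le_nor_Opp 2 H)
  let f := (QuotientGroup.mk' (oddCore Y)).comp φ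
  have hf : Function.Surjective f := (QuotientGroup.mk'_surjective _).comp hφ
  have k : f.ker = (pre φ (oddCore Y)).subgroupOf H := by
    rw [H5.pre_subgroupOf, ← MonoidHom.comap_ker, QuotientGroup.ker_mk']
  have hO : oddCore (Y ⧸ oddCore Y) = ⊥ := pPrimeCore_quotient_pPrimeCore 2 Y
  have ON := H5.le_pre_of_ker hk (Opp_le 2 H) (oddCore Y)
  have NH := H5.pre_le (f := φ) (oddCore Y)
  have nN : H ≤ Nor (pre φ (oddCore Y)) := H5.le_normalizer_pre le_rfl le_normalizer_of_normal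
  have two : ∀ R ≤ pre φ (oddCore Y), IsPGroup 2 R → R ≤ Opp 2 H := fun R h1 h2 =>
    (H5.im_eq_bot_iff hk (h1.trans NH)).1 (eq_bot_iff.2 ((le_inf le_rfl ((H5.im_mono h1).trans
      (H5.im_pre_le _))).trans (two_odd (H5.isPGroup_im h2)
        (odd_iff_cop.mpr (coprime_card_pPrimeCore 2 _))).le))
  generalize pre φ (oddCore Y) = N at *
  have hT : IsSylowOf 2 (H5.im f S) ⊤ := H5.im_self hf ▸ hS.im le_rfl
  have se : IsStronglyEmbedded (Nor (H5.im f S)) := by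
    refine se_crit hT (fun e => hn (two S ((H5.im_eq_bot_iff k hS.le).1 e) hS.isPGroup))
      (fun e => hn (le_Opp hS.le ((fratt hS).trans (sup_le (lnor le_sup_left) fun n hn' =>
        mem_normalizer_of_conjS_le ?_)) hS.isPGroup)) le_rfl ?_
    · have e1 := H5.le_normalizer_pre (f := f) le_rfl (le_top.trans e.ge)
      rw [H5.pre_im k NH hS.le, sup_comm] at e1
      have c := le_cen_symm (h.B_le hS hn)
      have e2 : conjS n S ≤ (N ⊔ S) ⊓ Cen (S ⊓ Opp 2 H : Subgroup G) := by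
        rw [← mem_normalizer_iff_conjS.1 (minf (e1 hn'.1) (mcen hn'.2))]
        exact conjS_mono n (le_inf le_sup_right c)
      rw [H5.sup_inf_of_le_normalizer' (hS.le.trans nN) c] at e2
      rw [conjS_sup, mem_normalizer_iff_conjS.1 (lOo H hn'.1)]
      exact sup_le le_sup_left (e2.trans (sup_le ((kl hS NH nN two).trans
        (sup_le_sup_left inf_le_left _)) le_sup_right))
    rintro _ ⟨x, hx, rfl⟩ ox g hg
    have h2 := hT.map_conj (g := g) (le_normalizer (mem_top g))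
    obtain ⟨T', h3, h4, h5⟩ := lift_syl hf h2 (hS.isPGroup.to_le (zpowers_le.2 hx))
      (zpowers_le.2 (H5.coe_mem_pre.2 (c1'.1 hg ▸ conj_mem_conjS (H5.mem_im_of_mem x.2 hx))))
    rcases h' S T' hS h3 with e | e
    · exact absurd ((H5.map_eq_one_iff_of_ker k).2 (ON (e ⟨hx, h4 (mem_zpowers _)⟩))) (ine ox)
    refine mem_normalizer_of_conjS_le (h5.ge.trans ((H5.im_le_im_iff k NH h3.le hS.le).2 ?_))
    exact e.trans (sup_le_sup_left ((pPrimeCoreIn_le_Opp 2 H).trans ON) _)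
  obtain ⟨Q, D, t, a, c⟩ := BS.seThm _ _ se (BS.rk2_top_iff.mp (BS.rk2_of_se se hO)) hO
  obtain rfl : Q = H5.im f S := (hT.of_le le_normalizer le_top).eq_of_le c.two
    (a.toA1.two_le_Q le_normalizer hT.isPGroup) a.toA1.Q_le
  exact ⟨_, _, inferInstance, N, f, D, t, hf, k, ON, NH, nN, two, a, c⟩

theorem hyp_cen {Q D : Subgroup G} {t : G} (h : BS.Hyp H Q D t) (hY : Odd (Nat.card Y))
    (n : Q ≤ Nor Y) (h2 : IsPGroup 2 Q) : Y = ⊥ := by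
  have a := h.toA1
  have e := (a.odd_le_H h.a3 le_top hY (BS.A1.Q0_le_Q.trans n)).trans inf_le_left
  have c : Y ≤ Cen Q := H5.SS.le_cen_of_disjoint (e.trans a.H_le_nor) n
    (inf_comm Y Q ▸ two_odd h2 hY)
  obtain ⟨k, hk, e1⟩ := H5.exists_conj_le a.sd.nor (cop2 h2 a.odd).symm (Or.inl (odd_solv a.odd))
    (e.trans a.sd.sup.ge) (cop2 h2 hY).symm
  rw [H5.map_conj_eq_of_mem_normalizer (n hk)] at e1
  exact eq_bot_iff.2 (h.faith ▸ le_inf e1 c)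

theorem CI.lb (h : CI H) (h' : TO H) (hS : IsSylowOf 2 S H) (hY : Y ≤ H) (ho : Odd (Nat.card Y))
    (n : S ≤ Nor Y) : Y ≤ Oo H := by
  by_cases hn : S ≤ Opp 2 H
  · exact lb_of hS le_rfl le_normalizer (fun R h1 h2 =>
      plength1_le_Opp ((plength1_iff_le hS).2 hn) h1 h2) hY ho n
  obtain ⟨X, _, _, N, f, D, t, s⟩ := h.sec h' hS hn
  exact lb_of hS s.le s.nor s.two ((H5.im_eq_bot_iff s.ker hY).1 (hyp_cen s.hyp
    (ho.of_dvd_nat (H5.card_im_dvd Y)) (H5.im_le_normalizer n) s.concl.two)) ho n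

namespace Sec

variable {X : Type u} [Group X] [Finite X] {f : H →* X} {D : Subgroup X} {t : X}
  (s : Sec S H N f D t) (hS : IsSylowOf 2 S H)
include s hS

theorem inf : S ⊓ N = S ⊓ Opp 2 H :=
  le_antisymm (le_inf inf_le_left (s.two _ inf_le_right hS.isPGroup.to_inf_left))
    (inf_le_inf_left _ s.opp)

theorem one {x : H} (hx : (x : G) ∈ S) : f x = 1 ↔ (x : G) ∈ S ⊓ Opp 2 H := by
  rw [← s.inf hS, H5.map_eq_one_iff_of_ker s.ker]
  exact ⟨fun e => ⟨hx, e⟩, fun e => e.2⟩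

theorem lift (hc : S ⊓ Opp 2 H ≤ Cen S) {k : X} (hk : k ∈ BS.Fg (im f S) t) (hn : k ∈ Nor (im f S)) :
    ∃ y : H, (y : G) ∈ Nor S ⊓ Cen (S ⊓ Opp 2 H : Subgroup G) ∧ f y = k := by
  have c : S ≤ H ⊓ Cen (S ⊓ Opp 2 H : Subgroup G) := le_inf hS.le (le_cen_symm hc)
  have : (im f (H ⊓ Cen (S ⊓ Opp 2 H : Subgroup G))).Normal := by
    refine normal_of_top_le_normalizer (le_trans ?_ (H5.im_le_normalizer
      (ninf (lnor inf_le_left) (ncen inf_le_right) : H ⊓ Nor (S ⊓ Opp 2 H : Subgroup G) ≤ _)))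
    rw [← H5.im_self s.surj, H5.im_le_im_iff s.ker s.le le_rfl inf_le_left, sup_comm]
    exact (fratt hS).trans (sup_le_sup_right ((pPrimeCoreIn_le_Opp 2 H).trans s.opp) _)
  obtain ⟨l, hl, rfl⟩ := s.hyp.Fg_le (fun e => s.hyp.toA1.Q_ne_bot
    (eq_bot_iff.2 (e ▸ H5.im_mono c))) hk
  have e := H5.pre_normalizer_le _ (H5.coe_mem_pre.2 hn)
  rw [H5.pre_im s.ker s.le hS.le, sup_comm] at e
  replace hl : (l : G) ∈ H ⊓ Cen (S ⊓ Opp 2 H : Subgroup G) := hl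
  have e1 := minf e (le_normalizer hl)
  have n := hS.le.trans s.nor
  rw [H5.sup_inf_of_le_normalizer' n c] at e1
  obtain ⟨m, hm, e2⟩ := (hS.of_le le_sup_right (sup_le (inf_le_left.trans s.le) hS.le)).frattini e1
  obtain ⟨a, ha, b, hb, rfl⟩ := (H5.mem_sup_left_iff (ninf n (lnor c))).1 hm
  refine ⟨(⟨a, s.le ha.1⟩ : H)⁻¹ * l, ⟨H5.mem_of_eq (mul_mem (le_normalizer hb) e2)
    (by simp [mul_assoc]), Subgroup.mul_mem _ (Subgroup.inv_mem _ ha.2.2) hl.2⟩, ?_⟩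
  rw [map_mul, map_inv, (H5.map_eq_one_iff_of_ker s.ker).2 ha.1, inv_one, one_mul]

theorem tk (hc : S ⊓ Opp 2 H ≤ Cen S) (hA : ∀ x ∈ S, x * x = 1 → x ∈ Cen S) (na : ¬ S ≤ Cen S)
    (hB : ¬ Om S ≤ Opp 2 H) : TK S (S ⊓ Opp 2 H) := by
  have a := s.hyp.toA1
  have h3 := s.hyp.a3
  have AH := (Om_le S).trans hS.le
  have mQ : ∀ x : H, (x : G) ∈ S → f x ∈ im f S := fun x hx => H5.mem_im_of_mem x.2 hx
  have lf : ∀ k ∈ BS.Kg D t, ∃ y : H, (y : G) ∈ Nor S ⊓ Cen (S ⊓ Opp 2 H : Subgroup G) ∧ f y = k :=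
    fun k hk => s.lift hS hc (a.Kg_le_Fg hk) (a.K_le_nor_Q hk)
  have mA : ∀ x : H, (x : G) ∈ Om S → f x ∈ BS.Q0 (im f S) := fun x hx =>
    BS.A1.mem_Q0_of (mQ x (Om_le S hx)) (by
      rw [← map_mul, show x * x = 1 from Subtype.ext ((mem_Om hA).1 hx).2, map_one])
  have e : im f (Om S) = BS.Q0 (im f S) := by
    refine le_antisymm ?_ (a.Q0_le_of h3 (H5.im_mono (Om_le S)) (fun k hk => ?_) ?_)
    · rintro _ ⟨x, hx, rfl⟩
      exact mA x hx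
    · obtain ⟨y, hy, rfl⟩ := lf k hk
      exact H5.im_le_normalizer (nOm S) (H5.mem_im_of_mem y.2 hy.1)
    · obtain ⟨x, hx, x1⟩ := SetLike.not_le_iff_exists.1 hB
      exact BS.even_of_inv (H5.mem_im_of_mem (AH hx) hx)
        (fun e => x1 ((s.one hS (Om_le S hx)).1 e).2) (a.Q0_sq h3 (mA _ hx))
  have k1 : ∀ x : H, (x : G) ∈ S → f x ∈ BS.Q0 (im f S) → (x : G) ∈ Cen S := fun x hx m => by
    obtain ⟨b, hb, e1⟩ := e.ge m
    have hb' := (mem_Om hA).1 hb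
    exact H5.mem_of_eq (mul_mem (hc ((s.one hS (x := x * b⁻¹) (mul_mem hx (inv_mem hb'.1))).1
      (by rw [map_mul, map_inv, e1, mul_inv_cancel]))) (hA _ hb'.1 hb'.2)) (by simp)
  obtain ⟨r, hr⟩ := a.exists_dist
  have cs : ¬ IsMulCommutative (im f S) ∧
      (Nat.card (im f S) = Nat.card (BS.Q0 (im f S)) ^ 2 ∨
        Nat.card (im f S) = Nat.card (BS.Q0 (im f S)) ^ 3) := by
    rcases s.concl.tri r hr with ⟨e1, -⟩ | ⟨e1, e2, -⟩ | ⟨e1, e2, -⟩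
    · exact (na fun x hx => k1 ⟨x, hS.le hx⟩ hx (e1.ge (mQ _ hx))).elim
    exacts [⟨e2, Or.inl e1⟩, ⟨e2, Or.inr e1⟩]
  obtain ⟨k, hk⟩ := a.exists_K_gen h3
  have sz := a.suz h3 hk le_rfl BS.A1.Q0_le_Q s.concl.two (a.K_le_nor_Q (hk ▸ mem_zpowers k))
  have nb : ¬ BS.Ab (im f S) := fun e => cs.1 (H5.isMulCommutative_of_forall e)
  refine ⟨inf_le_left, hc, fun x hx m => k1 ⟨x, hS.le hx⟩ hx (BS.A1.mem_Q0_of (mQ _ hx)
    (by rw [← map_mul]; exact (s.one hS m.1).2 m)), fun x hx m => ?_, fun x hx => ?_,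
    ⟨Nor S ⊓ Cen (S ⊓ Opp 2 H : Subgroup G) ⊓ pre f (BS.Kg D t), inf_le_left, ?_, ?_⟩,
    Nat.card (BS.Q0 (im f S)), ?_, ?_, ?_⟩
  · refine (s.one hS (x := ⟨x, hS.le hx⟩ * ⟨x, hS.le hx⟩) (mul_mem hx hx)).1 ?_
    rw [map_mul]
    exact a.Q0_sq h3 (sz.mem_of_cen nb (mQ _ hx) (GW.cen.1 (H5.im_centralizer_le S
      (H5.mem_im_of_mem (hS.le hx) m))))
  · exact k1 (⟨x, hS.le hx⟩ * ⟨x, hS.le hx⟩) (mul_mem hx hx)
      (map_mul f _ _ ▸ sz.sq_mem nb (mQ _ hx))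
  · intro y hy z hz b hb
    obtain ⟨y1, y2⟩ := H5.mem_pre.1 hy.2
    obtain ⟨z1, z2⟩ := H5.mem_pre.1 hz.2
    have b1 := Om_le S hb
    refine (s.one hS (x := ⟨y, y1⟩ * (⟨z, z1⟩ * ⟨b, AH hb⟩ * (⟨z, z1⟩)⁻¹) * (⟨y, y1⟩)⁻¹ *
      (⟨z, z1⟩ * (⟨y, y1⟩ * ⟨b, AH hb⟩ * (⟨y, y1⟩)⁻¹) * (⟨z, z1⟩)⁻¹)⁻¹) (mul_mem
        (cmem hy.1.1 (cmem hz.1.1 b1)) (inv_mem (cmem hz.1.1 (cmem hy.1.1 b1))))).1 ?_
    have := H5.comm_of_isMulCommutative (a.K_comm h3) y2 z2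
    simp only [map_mul, map_inv]
    generalize f ⟨y, y1⟩ = y, f ⟨z, z1⟩ = z, f ⟨b, AH hb⟩ = b at this ⊢
    calc _ = y * z * b * (y * z)⁻¹ * (z * y * b * (z * y)⁻¹)⁻¹ := by group
      _ = 1 := by rw [this, mul_inv_cancel]
  · intro b hb b1 c hc c1
    obtain ⟨k, hk, e1⟩ := a.exists_K_conj (mQ ⟨b, AH hb⟩ (Om_le S hb))
      (mt (s.one hS (Om_le S hb)).1 b1) (a.Q0_sq h3 (mA _ hb)) (mQ ⟨c, AH hc⟩ (Om_le S hc))
      (mt (s.one hS (Om_le S hc)).1 c1) (a.Q0_sq h3 (mA _ hc))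
    obtain ⟨y, hy, rfl⟩ := lf k (BS.A1.mem_Kg_of hk)
    exact ⟨y, ⟨hy, H5.coe_mem_pre.2 (BS.A1.mem_Kg_of hk)⟩, (s.one hS
      (x := y * ⟨b, AH hb⟩ * y⁻¹ * (⟨c, AH hc⟩)⁻¹) (mul_mem (cmem hy.1 (Om_le S hb))
        (inv_mem (Om_le S hc)))).1 (by simp only [map_mul, map_inv]; rw [e1, mul_inv_cancel])⟩
  · obtain ⟨n, h1, h2⟩ := a.card_Q0 h3
    exact h2 ▸ Nat.pow_le_pow_right two_pos h1
  · rw [H5.card_eq_card_im_mul s.ker AH, e, ← s.inf hS, ← inf_assoc, inf_eq_left.2 (Om_le S)]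
  · rw [H5.card_eq_card_im_mul s.ker hS.le, s.inf hS]
    exact cs.2.imp (fun e => by rw [e]) fun e => by rw [e]

end Sec

end W
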