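import Cfsg.Agent.W.CI1
import Cfsg.Agent.Ly.Red
import Cfsg.Agent.Ly.T4

/-! Central Sylow 2-intersections: the action of `N(S)` on the involutions. -/

set_option autoImplicit false
set_option linter.unusedSectionVars false
set_option linter.unusedVariables false

namespace W

open Cfsg Subgroup FT H4 GW
open H5 (IsSylowOf im pre)

universe u

theorem ar {a b c s : ℕ} (ha : 3 ≤ a) (hb : 3 ≤ b)
    (h1 : s = (a + 1) ^ 2 * (b + 1) ∨ s = (a + 1) ^ 3 * (b + 1))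
    (h2 : s = (b + 1) ^ 2 * (a + 1) ∨ s = (b + 1) ^ 3 * (a + 1))
    (h : a * b * c + (a + 1) * (b + 1) = s) : False := by
  have k : ∀ x y z : ℕ, 3 ≤ x → z ≤ 2 → 0 < z → x * c = x * y + z → False := fun x y z h1 h2 h3 e =>
    absurd (Nat.le_of_dvd h3 ((Nat.dvd_add_right ⟨y, rfl⟩).1 ⟨c, e.symm⟩)) (by omega)
  have p : 0 < (a + 1) * (b + 1) := by positivity
  rcases h1 with h1 | h1 <;> rcases h2 with h2 | h2
  · obtain rfl : a = b := by
      have := Nat.eq_of_mul_eq_mul_left p (show (a + 1) * (b + 1) * (a + 1) =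
        (a + 1) * (b + 1) * (b + 1) by linarith)
      omega
    exact k a (a + 2) 1 ha (by omega) (by omega)
      (Nat.eq_of_mul_eq_mul_left (show 0 < a by omega) (by linarith))
  · obtain rfl : a = b * b + 2 * b := by
      have := Nat.eq_of_mul_eq_mul_left p (show (a + 1) * (b + 1) * (a + 1) =
        (a + 1) * (b + 1) * ((b + 1) * (b + 1)) by linarith)
      linarith
    exact k b (b * b + 3 * b + 3) 1 hb (by omega) (by omega)
      (Nat.eq_of_mul_eq_mul_left (show 0 < b * b + 2 * b by omega) (by linarith))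
  · obtain rfl : b = a * a + 2 * a := by
      have := Nat.eq_of_mul_eq_mul_left p (show (a + 1) * (b + 1) * (b + 1) =
        (a + 1) * (b + 1) * ((a + 1) * (a + 1)) by linarith)
      linarith
    exact k a (a * a + 3 * a + 3) 1 ha (by omega) (by omega)
      (Nat.eq_of_mul_eq_mul_left (show 0 < a * a + 2 * a by omega) (by linarith))
  · obtain rfl : a = b := by
      have := Nat.eq_of_mul_eq_mul_left p (show (a + 1) * (b + 1) * ((a + 1) * (a + 1)) =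
        (a + 1) * (b + 1) * ((b + 1) * (b + 1)) by linarith)
      have := Nat.mul_self_inj.1 this
      omega
    exact k a (a * a + 4 * a + 5) 2 ha (by omega) (by omega)
      (Nat.eq_of_mul_eq_mul_left (show 0 < a by omega) (by linarith))

theorem dvd_of_fib {U I : Type*} [Finite U] [Finite I] (π : U → I)
    (h : ∀ i j, Nat.card {x // π x = i} ≤ Nat.card {x // π x = j}) : Nat.card I ∣ Nat.card U := by
  rcases isEmpty_or_nonempty I with e | ⟨⟨i⟩⟩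
  · have : IsEmpty U := ⟨fun x => e.elim (π x)⟩
    simp
  have := Fintype.ofFinite I
  rw [← Nat.card_congr (Equiv.sigmaFiberEquiv π), Nat.card_sigma,
    Finset.sum_congr rfl fun j _ => le_antisymm (h j i) (h i j)]
  simp

variable {G : Type u} [Group G] [Finite G] {S T H K M N B B' : Subgroup G}

/-- a nonabelian Sylow 2-subgroup whose involutions are central -/
structure GC (S : Subgroup G) : Prop where
  syl : IsSylowOf 2 S ⊤
  inv : ∀ x ∈ S, x * x = 1 → x ∈ Cen S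
  na : ¬ S ≤ Cen S

/-- the canonical complement -/
abbrev Wf (S E : Subgroup G) : Subgroup G := ⁅Om S, Nor S ⊓ Cen E⁆

namespace GC

variable (c : GC S)
include c

theorem mem {x : G} : x ∈ Om S ↔ x ∈ S ∧ x * x = 1 := mem_Om c.inv
theorem sq {x : G} (hx : x ∈ Om S) : x * x = 1 := (c.mem.1 hx).2
theorem cen : Om S ≤ Cen S := fun x hx => c.inv x (Om_le S hx) (c.sq hx)
theorem cm {x y : G} (hx : x ∈ Om S) (hy : y ∈ S) : x * y = y * x := GW.cen.1 (c.cen hx) y hy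
theorem elem : IsElementaryAbelian 2 (Om S) :=
  ⟨H5.isMulCommutative_of_forall fun x hx y hy => c.cm hx (Om_le S hy),
    fun x hx => by rw [pow_two, c.sq hx]⟩

theorem w (h : TK S B) : Wf S (Om S ⊓ B) ⊔ Om S ⊓ B = Om S ∧ Wf S (Om S ⊓ B) ⊓ (Om S ⊓ B) = ⊥ ∧
    ∃ Y, RegY (Nor S) (Wf S (Om S ⊓ B)) (Om S ⊓ B) Y := by
  obtain ⟨Y, h1, h2, h3⟩ := h.reg
  obtain ⟨q, h4, h5, -⟩ := h.card
  have YX : Y ≤ Nor S ⊓ Cen (Om S ⊓ B : Subgroup G) :=
    h1.trans (inf_le_inf_left _ (centralizer_anti inf_le_right))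
  have SX : S ≤ Nor S ⊓ Cen (Om S ⊓ B : Subgroup G) :=
    le_inf le_normalizer (le_cen_symm (inf_le_left.trans c.cen))
  have hS := c.syl.of_le SX le_top
  obtain ⟨R, r1, r2, -, r3⟩ := H5.exists_complement_of_coprime SX inf_le_left
    (H5.coprime_card_of_isPGroup hS.isPGroup hS.not_dvd)
  have nA := (r1.trans inf_le_left).trans (nOm S)
  have cp : (Nat.card R).Coprime (Nat.card (Om S)) := (H5.coprime_card_of_isPGroup
    (hS.isPGroup.to_le (Om_le S)) (r3 ▸ hS.not_dvd)).symm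
  have dc : ∀ x ∈ Nor S ⊓ Cen (Om S ⊓ B : Subgroup G), ∃ r ∈ R, ∀ a ∈ Om S,
      x * a * x⁻¹ = r * a * r⁻¹ := fun x hx => by
    obtain ⟨r, hr, s, hs, rfl⟩ := (H5.mem_sup_right_iff (r1.trans inf_le_left)).1
      ((sup_comm S R ▸ r2).ge hx)
    exact ⟨r, hr, fun a ha => by rw [mul_assoc r, ← c.cm ha hs]; group⟩
  have e : Wf S (Om S ⊓ B) = ⁅Om S, R⁆ := le_antisymm (commutator_le.2 fun a ha x hx => by
    obtain ⟨r, hr, e⟩ := dc x hx
    refine H5.mem_of_eq (commutator_mem_commutator ha hr) ?_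
    rw [commutatorElement_def, commutatorElement_def, mul_assoc a, mul_assoc a, mul_assoc a,
      mul_assoc a, e _ (inv_mem ha)]) (commutator_mono le_rfl r1)
  have WA : Wf S (Om S ⊓ B) ≤ Om S := com_l (inf_le_left.trans (nOm S))
  have i : Wf S (Om S ⊓ B) ⊓ (Om S ⊓ B) = ⊥ := eq_bot_iff.2 (e ▸ (inf_le_inf_left _
    (le_cen_symm (r1.trans inf_le_right))).trans
      (H5.commutator_inf_centralizer_eq_bot c.elem.1 nA cp).le)
  have nW : Y ≤ Nor (Wf S (Om S ⊓ B)) := ncom ((YX.trans inf_le_left).trans (nOm S)) (lnor YX)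
  have nB : ∀ a ∈ Wf S (Om S ⊓ B), a ≠ 1 → a ∉ B := fun a ha a1 m => a1 (eq1 i ha ⟨WA ha, m⟩)
  refine ⟨le_antisymm (sup_le WA inf_le_left) ?_, i, Y, YX.trans inf_le_left,
    YX.trans inf_le_right, nW, fun y hy z hz a ha => mul_inv_eq_one.1 ?_, fun a ha b hb a1 b1 => ?_⟩
  · rw [e]
    refine (H5.commutator_sup_centralizer nA cp (Or.inr (H5.isSolvable_of_isMulCommutative
      c.elem.1))).ge.trans (sup_le_sup_left (fun a ha => ⟨ha.1, ?_⟩) _)
    by_contra a1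
    have p : 0 < Nat.card (Om S ⊓ B : Subgroup G) := Nat.card_pos
    obtain ⟨b, hb, b1⟩ := ex_not_mem (E := zpowers a ⊔ Om S ⊓ B) (V := Om S) (by
      have := Nat.le_of_dvd (Nat.mul_pos Nat.card_pos p) (H5.card_sup_dvd
        (K := zpowers a) (A := Om S ⊓ B) (nzp fun x hx => c1.2 (c.cm hx.1 (Om_le S ha.1))))
      have h6 := card_zp_le (c.sq ha.1)
      nlinarith)
    obtain ⟨y, hy, m⟩ := h3 a ha.1 a1 b hb fun m => b1 (mem_sup_right ⟨hb, m⟩)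
    obtain ⟨r, hr, e1⟩ := dc y (YX hy)
    rw [e1 a ha.1, ← GW.cen.1 ha.2 r hr, mul_inv_cancel_right] at m
    exact b1 (H5.mem_of_eq (mul_mem (inv_mem (mem_sup_right
      (mem_inf.2 ⟨mul_mem (mem_inf.1 ha).1 (inv_mem hb), m⟩)))
      (mem_sup_left (mem_zpowers a))) (by group))
  · have m := mul_mem (cmem (nW hy) (cmem (nW hz) ha)) (inv_mem (cmem (nW hz) (cmem (nW hy) ha)))
    exact eq1 i m ⟨WA m, h2 y hy z hz a (WA ha)⟩
  · obtain ⟨y, hy, m⟩ := h3 a (WA ha) (nB a ha a1) b (WA hb) (nB b hb b1)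
    have m' := mul_mem (cmem (nW hy) ha) (inv_mem hb)
    exact ⟨y, hy, mul_inv_eq_one.1 (eq1 i m' ⟨WA m', m⟩)⟩

theorem card_w (h : TK S B) {q : ℕ} (e : Nat.card (Om S) = q * Nat.card (Om S ⊓ B : Subgroup G)) :
    Nat.card (Wf S (Om S ⊓ B)) = q := by
  obtain ⟨h1, h2, Y, r⟩ := c.w h
  have := H5.card_sup_of_disjoint (cnor fun x hx => GW.cen.2 fun y hy =>
    c.cm (mem_inf.1 hx).1 (Om_le S (h1.le (mem_sup_left hy)))) h2
  rw [h1, e] at this
  exact (Nat.eq_of_mul_eq_mul_right Nat.card_pos this).symm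

theorem clh {P : Subgroup G → Prop} (h1 : ∀ B, P B → TK S B)
    (h2 : ∀ g ∈ Nor S, ∀ B, P B → P (conjS g B))
    (h3 : ∀ B B', P B → P B' → Om S ⊓ B ⊓ (Om S ⊓ B') ≠ ⊥ → Om S ⊓ B = Om S ⊓ B') :
    CLH (Om S) (Nor S) fun W E => ∃ B, P B ∧ E = Om S ⊓ B ∧ W = Wf S E where
  cm x hx y hy := c.cm hx (Om_le S hy)
  sq x hx := c.sq hx
  nor := nOm S
  odd g hg := by
    obtain ⟨a, ha, b, hb, e, ⟨j, hj⟩, hc⟩ := exists_pPart 2 g
    have cm : Commute a b := by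
      obtain ⟨m, rfl⟩ := mem_zpowers_iff.1 ha
      obtain ⟨n, rfl⟩ := mem_zpowers_iff.1 hb
      exact Commute.zpow_zpow_self g m n
    refine ⟨orderOf b, odd_iff_cop.2 hc, le_cen_symm c.cen ?_⟩
    rw [e, cm.mul_pow, pow_orderOf_eq_one, mul_one]
    exact pow_mem (c.syl.le_of_le_normalizer' (isPGroup_zpowers_of_pow hj) le_top
      (zpowers_le.2 (zpowers_le.2 hg ha)) (mem_zpowers a)) _
  inv g hg W E := by
    rintro ⟨B, p, rfl, rfl⟩
    have e := mem_normalizer_iff_conjS.1 (nOm S hg)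
    exact ⟨_, h2 g hg B p, by rw [conjS_inf, e], by
      rw [conjS_commutator, conjS_inf, conj_nor, conj_cen, e, mem_normalizer_iff_conjS.1 hg]⟩
  sup W E := by rintro ⟨B, p, rfl, rfl⟩; exact (c.w (h1 B p)).1
  inf W E := by rintro ⟨B, p, rfl, rfl⟩; exact (c.w (h1 B p)).2.1
  four W E := by
    rintro ⟨B, p, rfl, rfl⟩
    obtain ⟨q, h4, h5, -⟩ := (h1 B p).card
    rwa [c.card_w (h1 B p) h5]
  ex W E := by rintro ⟨B, p, rfl, rfl⟩; exact (c.w (h1 B p)).2.2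
  dich W E W' E' := by
    rintro ⟨B, p, rfl, rfl⟩ ⟨B', p', rfl, rfl⟩ e
    exact Or.inl ⟨by rw [h3 B B' p p' e], h3 B B' p p' e⟩

theorem two (h : TK S B) (h' : TK S B') (e : Om S ⊓ B ⊓ (Om S ⊓ B') = ⊥) :
    S ⊓ Cen S ≤ Om S := fun x hx => c.mem.2 ⟨hx.1, by
  by_contra e1
  obtain ⟨z, hz, zz, z1, -⟩ := H5.Dich.exists_central (c.syl.isPGroup.to_le
    (inf_le_left.trans h.le : B ⊓ B' ≤ S)) (ne_bot_of ⟨h.sq2 x hx.1 hx.2, h'.sq2 x hx.1 hx.2⟩ e1)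
  have m := c.mem.2 ⟨h.le hz.1, zz⟩
  exact z1 (eq1 e ⟨m, hz.1⟩ ⟨m, hz.2⟩)⟩

theorem no1 (h0 : ∀ v ∈ Om S, (∀ g ∈ Nor S, g * v * g⁻¹ = v) → v = 1) (h : TK S B)
    (h2 : Nat.card (Om S ⊓ B : Subgroup G) = 2) : False := by
  have zp : ∀ E : Subgroup G, Nat.card E = 2 → ∀ b ∈ E, b ≠ 1 → zpowers b = E := fun E e b hb b1 =>
    eq_of_le_of_card_ge (zpowers_le.2 hb) (e ▸ (one_lt_card_iff_ne_bot _).2 (zpowers_ne_bot.2 b1))
  have cl := c.clh (P := fun B => TK S B ∧ Nat.card (Om S ⊓ B : Subgroup G) = 2) (fun _ p => p.1)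
    (fun g hg B p => ⟨p.1.conj hg, by
      rw [← mem_normalizer_iff_conjS.1 (nOm S hg), ← conjS_inf, card_conjS, p.2]⟩)
    fun B B' p p' e => by
      obtain ⟨b, hb, b1⟩ := ex_ne e
      rw [← zp _ p.2 b hb.1 b1, ← zp _ p'.2 b hb.2 b1]
  obtain ⟨b, hb, b1⟩ := ex_ne ((one_lt_card_iff_ne_bot _).1 (h2 ▸ one_lt_two))
  have e := zp _ h2 b hb b1
  have tr := (cl.cl1 ⟨B, ⟨h, h2⟩, e, rfl⟩ b1 h0).2
  obtain ⟨g, hg, e1⟩ : ∃ g ∈ Nor S, g * b * g⁻¹ ≠ b := by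
    by_contra! e1
    exact b1 (h0 b hb.1 e1)
  obtain ⟨x, hx, x1⟩ := SetLike.not_le_iff_exists.1 c.na
  suffices i : Om S ⊓ B ⊓ (Om S ⊓ conjS g B) = ⊥ by
    obtain ⟨n, hn, e2⟩ := tr _ (c.two h (h.conj hg) i
      ⟨mul_mem hx hx, h.sq3 x hx⟩) fun e => x1 (c.inv x hx e)
    exact x1 ((h.conj hn).sq1 x hx (e2 ▸ conj_mem_conjS hb.2))
  refine eq_bot_iff.2 fun y hy => ?_
  rcases mem_zp2 (c.sq hb.1) (e.ge hy.1) with e3 | rfl
  · exact e3
  rcases mem_zp2 (c.sq hb.1) (e.ge ⟨cmem' (nOm S hg) hb.1, mem_conjS.1 hy.2.2⟩) with e3 | e3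
  · exact (b1 (calc y = g * (g⁻¹ * y * g) * g⁻¹ := by group
      _ = 1 := by rw [e3]; group)).elim
  · exact absurd (by simpa [mul_assoc] using (congrArg (fun x => g * x * g⁻¹) e3).symm) e1

theorem no2 {P : Subgroup G → Prop} (h1 : ∀ B, P B → TK S B)
    (h2 : ∀ g ∈ Nor S, ∀ B, P B → P (conjS g B))
    (h3 : ∀ B B', P B → P B' → Om S ⊓ B ⊓ (Om S ⊓ B') ≠ ⊥ → Om S ⊓ B = Om S ⊓ B')
    (h4 : ∀ B, P B → 4 ≤ Nat.card (Om S ⊓ B : Subgroup G)) (p : P B) (p' : P B') :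
    Om S ⊓ B = Om S ⊓ B' := by
  have cl := c.clh h1 h2 h3
  by_contra ne
  have i : Om S ⊓ B ⊓ (Om S ⊓ B') = ⊥ := by_contra fun e => ne (h3 B B' p p' e)
  have f : ∃ B₀, P B₀ ∧ Om S ⊓ B = Om S ⊓ B₀ ∧ Wf S (Om S ⊓ B) = Wf S (Om S ⊓ B) := ⟨B, p, rfl, rfl⟩
  have f' : ∃ B₀, P B₀ ∧ Om S ⊓ B' = Om S ⊓ B₀ ∧ Wf S (Om S ⊓ B') = Wf S (Om S ⊓ B') :=
    ⟨B', p', rfl, rfl⟩
  obtain ⟨l1, l2⟩ := (cl.cl2 (by rintro _ _ ⟨B, p, rfl, -⟩; exact h4 B p) f f').resolve_left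
    fun e => ne e.2
  have t := h1 B p
  have t' := h1 B' p'
  have z := c.two t t' i
  obtain ⟨q, q4, e1, e2⟩ := t.card
  obtain ⟨q', q4', e1', e2'⟩ := t'.card
  have w := c.card_w t e1
  have w' := c.card_w t' e1'
  obtain ⟨Y, r⟩ := cl.ex _ _ f
  obtain ⟨Y', r'⟩ := cl.ex _ _ f'
  have d := fun v (hv : v ∈ Om S) => cl.dec f hv
  have b1 : Om S ⊓ B = B := inf_eq_right.2 ((le_inf t.le t.cen).trans z)
  have b2 : Om S ⊓ B' = B' := inf_eq_right.2 ((le_inf t'.le t'.cen).trans z)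
  have k1 : Wf S (Om S ⊓ B) = B' := le_antisymm (l1.trans b2.le) fun v hv => by
    obtain ⟨s, hs, b, hb, rfl⟩ := d v (b2.ge hv).1
    rwa [eq1 i hb ((mul_mem_cancel_left (l1 hs)).1 (b2.ge hv)), mul_one]
  have k2 : Wf S (Om S ⊓ B') = B := le_antisymm (l2.trans b1.le) fun v hv => by
    obtain ⟨s, hs, b, hb, rfl⟩ := cl.dec f' (b1.ge hv).1
    rwa [eq1 i ((mul_mem_cancel_left (l2 hs)).1 (b1.ge hv)) hb, mul_one]
  rw [k1, b1] at r d
  rw [k2, b2] at r'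
  rw [k1] at w
  rw [k2] at w'
  rw [b1, b2] at i
  rw [b1, w'] at e1
  rw [w'] at e2
  rw [w] at e2'
  have nc : ∀ x ∈ S, x ∉ Om S → x ∉ Cen S := fun x hx m e => m (z ⟨hx, e⟩)
  obtain ⟨k, hk⟩ := dvd_of_fib (fun x : ((S : Set G) \ Om S : Set G) =>
    (⟨x.1 * x.1, z ⟨mul_mem x.2.1 x.2.1, t.sq3 _ x.2.1⟩, fun e => nc _ x.2.1 x.2.2
      (e.elim (t.sq1 _ x.2.1) (t'.sq1 _ x.2.1))⟩ : ((Om S : Set G) \ (B ∪ B') : Set G))) (by
    rintro ⟨v, hv, v1⟩ ⟨u, hu, u1⟩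
    obtain ⟨s, hs, b, hb, rfl⟩ := d v hv
    obtain ⟨s', hs', b', hb', rfl⟩ := d u hu
    obtain ⟨y, hy, a1⟩ := r.tr s hs s' hs' (fun e => v1 (Or.inl (by simpa [e] using hb)))
      (fun e => u1 (Or.inl (by simpa [e] using hb')))
    obtain ⟨y', hy', a2⟩ := r'.tr b hb b' hb' (fun e => v1 (Or.inr (by simpa [e] using hs)))
      (fun e => u1 (Or.inr (by simpa [e] using hs')))
    have n := mul_mem (r'.le hy') (r.le hy)
    have a3 : y' * y * (s * b) * (y' * y)⁻¹ = s' * b' := by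
      calc _ = y' * (y * (s * b) * y⁻¹) * y'⁻¹ := by group
        _ = _ := by rw [CLH.act r hy hb, a1, ← mul_assoc, GW.cen.1 (r'.cen hy') _ hs', mul_assoc s',
          mul_assoc s', a2]
    generalize y' * y = g at n a3
    refine Nat.card_le_card_of_injective (fun x => ⟨⟨g * x.1 * g⁻¹, cmem n x.1.2.1, fun m =>
      x.1.2.2 (by simpa [mul_assoc] using cmem' (nOm S n) m)⟩, Subtype.ext ?_⟩) fun x y e => ?_
    · have := congrArg Subtype.val x.2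
      simp only at this ⊢
      rw [conj_mul, this, a3]
    · exact Subtype.ext (Subtype.ext (by simpa using congrArg (fun x => x.1.1) e)))
  rw [Nat.card_coe_set_eq, Nat.card_coe_set_eq] at hk
  have n1 := Set.ncard_sdiff_add_ncard_of_subset (show (Om S : Set G) ⊆ S from Om_le S)
  have n2 := Set.ncard_sdiff_add_ncard_of_subset (show (B ∪ B' : Set G) ⊆ Om S from
    Set.union_subset (b1.ge.trans inf_le_left) (b2.ge.trans inf_le_left))
  have n3 := Set.ncard_union_add_ncard_inter (B : Set G) B'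
  rw [← coe_inf, i, coe_bot, Set.ncard_singleton] at n3
  have cv : ∀ E : Subgroup G, (E : Set G).ncard = Nat.card E := fun E => rfl
  simp only [cv] at n1 n2 n3
  obtain ⟨a, rfl⟩ : ∃ a, q = a + 1 := ⟨q - 1, by omega⟩
  obtain ⟨b, rfl⟩ : ∃ b, q' = b + 1 := ⟨q' - 1, by omega⟩
  refine ar (c := k) (by omega) (by omega) e2 e2' ?_
  rw [← n1, hk, e1, show ((Om S : Set G) \ (B ∪ B')).ncard = a * b by nlinarith]

end GC

end W
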