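import Cfsg.Agent.W.Gen

/-! Central extensions: tools for Schur multiplier computations. -/

set_option autoImplicit false
set_option linter.unusedSectionVars false
set_option linter.unusedVariables false

namespace W

open Cfsg Subgroup FT H4 GW
open H5 (IsSylowOf)
open scoped commutatorElement

section
variable {G : Type*} [Group G] [Finite G]

theorem tr_top {H : Subgroup G} {z : G} (hc : ∀ g, g * z = z * g) (hH : z ∈ H)
    (ho : (orderOf z).Coprime H.index) (h : z ∈ commutator G) : z ∈ ⁅H, H⁆ := by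
  have h1 := MonoidHom.transfer_eq_pow (Abelianization.of : H →* Abelianization H) z
    fun k g _ => by rw [mul_assoc, (Commute.pow_left (hc g).symm k).eq]; group
  rw [Abelianization.commutator_subset_ker _ h, eq_comm, ← MonoidHom.mem_ker,
    Abelianization.ker_of] at h1
  rw [← map_subtype_commutator]
  obtain ⟨m, hm⟩ := exists_pow_eq_self_of_coprime ho.symm
  exact hm ▸ pow_mem (mem_map_of_mem H.subtype h1) m

theorem tr_sub {H M : Subgroup G} {z : G} (hc : ∀ g, g * z = z * g) (hH : z ∈ H) (HM : H ≤ M)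
    (ho : (orderOf z).Coprime (H.relIndex M)) (h : z ∈ ⁅M, M⁆) : z ∈ ⁅H, H⁆ := by
  rw [← map_subtype_commutator] at h
  obtain ⟨z, h, rfl⟩ := h
  have := mem_map_of_mem M.subtype (tr_top (H := H.subgroupOf M) (fun g => Subtype.ext (hc g)) hH
    (by rwa [← orderOf_coe]) h)
  rwa [map_commutator, subgroupOf_map_subtype, inf_eq_left.2 HM] at this

end

variable {L X : Type*} [Group L] [Finite L] [Group X] [Finite X] {π : L →* X}

/-- a central extension -/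
structure CE (π : L →* X) : Prop where
  surj : Function.Surjective π
  cen : ∀ z, π z = 1 → ∀ g, g * z = z * g

theorem bil {F : Type*} [Field F] (hπ : Function.Surjective π) {A B : Subgroup X}
    {Y W : Subgroup L} {φ ψ : X → F} (hY : ∀ x y, π x ∈ A → π y ∈ B → ⁅x, y⁆ ∈ Y)
    (cA : ∀ u ∈ Y, ∀ x, π x ∈ A → x * u = u * x) (cB : ∀ u ∈ Y, ∀ x, π x ∈ B → x * u = u * x)
    (φa : ∀ x ∈ A, ∀ y ∈ A, φ (x * y) = φ x + φ y) (ψa : ∀ x ∈ B, ∀ y ∈ B, ψ (x * y) = ψ x + ψ y)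
    (φ0 : ∀ x y, π x ∈ A → π y ∈ B → φ (π x) = 0 → ⁅x, y⁆ ∈ W)
    (ψ0 : ∀ x y, π x ∈ A → π y ∈ B → ψ (π y) = 0 → ⁅x, y⁆ ∈ W) (ψs : ∀ a, ∃ y ∈ B, ψ y = a)
    (l : List (X × F × F)) (hl : ∀ p ∈ l,
      (∀ x ∈ A, p.1 * x * p.1⁻¹ ∈ A ∧ φ (p.1 * x * p.1⁻¹) = p.2.1 * φ x) ∧
      (∀ y ∈ B, p.1⁻¹ * y * p.1 ∈ B ∧ ψ (p.1⁻¹ * y * p.1) = p.2.2 * ψ y) ∧
      ∀ g, π g = p.1 → ∀ u ∈ Y, g * u * g⁻¹ * u⁻¹ ∈ W)
    (h1 : (l.map (·.2.1)).sum = 0) (h2 : (l.map (·.2.2)).sum ≠ 0) {x y : L} (hx : π x ∈ A)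
    (hy : π y ∈ B) : ⁅x, y⁆ ∈ W := by
  have ml : ∀ a b y, π a ∈ A → π b ∈ A → π y ∈ B → ⁅a * b, y⁆ = ⁅b, y⁆ * ⁅a, y⁆ :=
    fun a b y ha hb hy => by
    calc _ = a * ⁅b, y⁆ * a⁻¹ * ⁅a, y⁆ := by simp only [commutatorElement_def]; group
      _ = _ := by rw [cA _ (hY b y hb hy) a ha, mul_inv_cancel_right]
  have mr : ∀ x a b, π x ∈ A → π a ∈ B → π b ∈ B → ⁅x, a * b⁆ = ⁅x, a⁆ * ⁅x, b⁆ :=
    fun x a b hx ha hb => by
    calc _ = ⁅x, a⁆ * (a * ⁅x, b⁆ * a⁻¹) := by simp only [commutatorElement_def]; group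
      _ = _ := by rw [cB _ (hY x b hx hb) a ha, mul_inv_cancel_right]
  have z1 : ∀ (C : Subgroup X) (φ : X → F), (∀ x ∈ C, ∀ y ∈ C, φ (x * y) = φ x + φ y) → φ 1 = 0 :=
    fun C φ h => by simpa using h 1 (one_mem _) 1 (one_mem _)
  have key : ∀ y, π y ∈ B → ∃ x' y', π x' ∈ A ∧ π y' ∈ B ∧
      φ (π x') = (l.map (·.2.1)).sum * φ (π x) ∧ ψ (π y') = (l.map (·.2.2)).sum * ψ (π y) ∧
      ⁅x', y⁆ * ⁅x, y'⁆⁻¹ ∈ W := by
    intro y hy
    clear h1 h2
    induction l with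
    | nil => exact ⟨1, 1, by simp, by simp, by simp [z1 A φ φa], by simp [z1 B ψ ψa], by simp⟩
    | cons p l ih =>
    obtain ⟨x', y', a1, a2, a3, a4, a5⟩ := ih fun p hp => hl p (List.mem_cons_of_mem _ hp)
    obtain ⟨b1, b2, b3⟩ := hl p List.mem_cons_self
    obtain ⟨g, hg⟩ := hπ p.1
    obtain ⟨c1, c2⟩ := b1 _ hx
    obtain ⟨c3, c4⟩ := b2 _ hy
    rw [← hg, ← map_inv, ← map_mul, ← map_mul] at c1 c2 c3 c4
    have m := hY _ _ hx c3
    refine ⟨g * x * g⁻¹ * x', y' * (g⁻¹ * y * g), map_mul π _ _ ▸ mul_mem c1 a1,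
      map_mul π _ _ ▸ mul_mem a2 c3, ?_, ?_, H5.mem_of_eq (mul_mem a5 (b3 g hg _ m)) ?_⟩
    · rw [map_mul, φa _ c1 _ a1, c2, a3, List.map_cons, List.sum_cons, add_mul]
    · rw [map_mul, ψa _ a2 _ c3, c4, a4, List.map_cons, List.sum_cons, add_mul, add_comm]
    have e : g * ⁅x, g⁻¹ * y * g⁆ * g⁻¹ = ⁅g * x * g⁻¹, y⁆ := by
      simp only [commutatorElement_def]; group
    have c : ∀ u ∈ Y, Commute ⁅x, y'⁆ u := fun u hu =>
      ((Commute.mul_left (cA u hu x hx) (cB u hu y' a2)).mul_left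
        (Commute.inv_left (cA u hu x hx))).mul_left (Commute.inv_left (cB u hu y' a2))
    rw [ml _ _ _ c1 a1 hy, mr _ _ _ hx a2 c3, e, mul_inv_rev, mul_assoc ⁅x', y⁆,
      (c _ (mul_mem (hY _ _ c1 hy) (inv_mem m))).inv_left.eq]
    simp only [mul_assoc]
  obtain ⟨y₀, h3, h4⟩ := ψs (ψ (π y) / (l.map (·.2.2)).sum)
  obtain ⟨y₀, rfl⟩ := hπ y₀
  obtain ⟨x', y', a1, a2, a3, a4, a5⟩ := key y₀ h3
  rw [h1, zero_mul] at a3
  rw [h4, mul_div_cancel₀ _ h2] at a4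
  have a6 : π (y'⁻¹ * y) ∈ B := by rw [map_mul, map_inv]; exact mul_mem (inv_mem a2) hy
  have a7 := ψa _ a2 _ a6
  rw [← map_mul, mul_inv_cancel_left, a4, left_eq_add] at a7
  rw [← mul_inv_cancel_left y' y, mr _ _ _ hx a2 a6]
  exact mul_mem ((inv_mem_iff).1 ((mul_mem_cancel_left (φ0 _ _ a1 h3 a3)).1 a5)) (ψ0 _ _ hx a6 a7)

namespace CE

variable (h : CE π) {z : L}
include h

theorem tr (hz : π z = 1) (hc : z ∈ commutator L) {M : Subgroup X}
    (ho : (orderOf z).Coprime M.index) : z ∈ ⁅M.comap π, M.comap π⁆ :=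
  tr_top (h.cen z hz) (by rw [mem_comap, hz]; exact one_mem _)
    (by rwa [index_comap_of_surjective _ h.surj]) hc

theorem cm {x y x' y' : L} (e1 : π x = π x') (e2 : π y = π y') (e : x * y = y * x) :
    x' * y' = y' * x' := by
  have a := h.cen (x⁻¹ * x') (by rw [map_mul, map_inv, e1, inv_mul_cancel])
  have b := h.cen (y⁻¹ * y') (by rw [map_mul, map_inv, e2, inv_mul_cancel])
  rw [← mul_inv_cancel_left x x', ← mul_inv_cancel_left y y']
  generalize x⁻¹ * x' = u, y⁻¹ * y' = v at a b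
  calc x * u * (y * v) = x * y * v * u := by rw [mul_assoc, ← a]; group
    _ = _ := by rw [e, mul_assoc y x, b x]; group

theorem cyc (hz : π z = 1) (hc : z ∈ commutator L) {M : Subgroup X} (hM : IsCyclic M)
    (ho : (orderOf z).Coprime M.index) : z = 1 := by
  obtain ⟨⟨g, hg⟩, h1⟩ := hM.exists_generator
  obtain ⟨g, rfl⟩ := h.surj g
  refine mem_bot.1 (commutator_le.2 (fun x hx y hy => ?_) (h.tr hz hc ho))
  obtain ⟨i, hi⟩ := mem_zpowers_iff.1 (h1 ⟨_, hx⟩)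
  obtain ⟨j, hj⟩ := mem_zpowers_iff.1 (h1 ⟨_, hy⟩)
  exact commutatorElement_eq_one_iff_mul_comm.2 (h.cm (by simpa using congrArg Subtype.val hi)
    (by simpa using congrArg Subtype.val hj) (Commute.zpow_zpow_self g i j))

theorem abZ {Q Z : Subgroup X} (hZ : ∀ z ∈ Z, z * z = 1 ∧ ∃ y ∈ Q, y * y = z)
    (hc : ∀ z ∈ Z, ∀ y ∈ Q, y * z = z * y) {u v : L} (hu : π u ∈ Z) (hv : π v ∈ Z) :
    u * v = v * u := by
  obtain ⟨y, hy, e⟩ := (hZ _ hv).2
  obtain ⟨y, rfl⟩ := h.surj y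
  refine h.cm rfl (map_mul π y y ▸ e) ?_
  have a := h.cen (u⁻¹ * y⁻¹ * u * y) (by
    simp only [map_mul, map_inv]; rw [mul_assoc, mul_assoc, ← hc _ hu _ hy]; group)
  have b := h.cen (u * u) (by rw [map_mul, (hZ _ hu).1])
  have e1 : u * y = y * u * (u⁻¹ * y⁻¹ * u * y) := by group
  generalize u⁻¹ * y⁻¹ * u * y = c at a e1
  have e2 : c * c = 1 := mul_left_cancel (a := y * (u * u)) (by
    calc _ = y * u * (u * c) * c := by group
      _ = y * u * c * u * c := by rw [a u, ← mul_assoc]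
      _ = u * (u * y) := by rw [← e1, mul_assoc u y u, mul_assoc u, ← e1]
      _ = _ := by rw [← mul_assoc, ← b y, mul_one])
  rw [← mul_assoc, e1, mul_assoc _ c, ← a y, ← mul_assoc, mul_assoc y u, e1, ← mul_assoc, mul_assoc _ c,
    e2, mul_one, ← mul_assoc]

/-- no involution in the multiplier -/
theorem two {F : Type*} [Field F] {Q Z D : Subgroup X} (hQ : Odd Q.index) (hD : Odd (Nat.card D))
    (nZ : D ≤ Nor Z) (cZ : ∀ u x, π u ∈ Z → π x ∈ Q → x * u = u * x) {φ : X → F}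
    (φa : ∀ x ∈ Q, ∀ y ∈ Q, φ (x * y) = φ x + φ y) (φ0 : ∀ x ∈ Q, φ x = 0 ↔ x ∈ Z) (ZQ : Z ≤ Q)
    (φs : ∀ a, ∃ y ∈ Q, φ y = a) {a : F} (h0 : a ^ 4 ≠ a) (hl : ∀ b, b = a ∨ b = a + 1 → ∃ g ∈ D,
      g ∈ Nor Q ∧ ∀ x ∈ Q, φ (g * x * g⁻¹) = b * φ x) (h2 : (2 : F) = 0)
    (hz : π z = 1) (hc : z ∈ commutator L) (zz : z * z = 1) : z = 1 := by
  by_contra z1
  have oz := o2 zz z1
  have a0 : a ≠ 0 := by rintro rfl; simp at h0
  have a1 : a + 1 ≠ 0 := fun e => h0 (by rw [show a = 1 by linear_combination e - h2, one_pow])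
  have nz : D.comap π ≤ Nor (Z.comap π) := (comap_mono nZ).trans (le_normalizer_comap π)
  have inv : ∀ x ∈ Q, φ x⁻¹ = φ x := fun x hx => by
    have := φa _ hx _ (inv_mem hx)
    rw [mul_inv_cancel, (φ0 1 (one_mem _)).2 (one_mem _)] at this
    linear_combination -this - φ x * h2
  have k : ⁅Q.comap π, Q.comap π⁆ ≤ ⁅Z.comap π, D.comap π⁆ := by
    obtain ⟨g, g1, g2, g3⟩ := hl a (Or.inl rfl)
    obtain ⟨g', g1', g2', g3'⟩ := hl _ (Or.inr rfl)
    have iv : ∀ g b, b ≠ 0 → g ∈ D → g ∈ Nor Q → (∀ x ∈ Q, φ (g * x * g⁻¹) = b * φ x) →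
        (∀ x ∈ Q, g * x * g⁻¹ ∈ Q ∧ φ (g * x * g⁻¹) = b * φ x) ∧
        (∀ y ∈ Q, g⁻¹ * y * g ∈ Q ∧ φ (g⁻¹ * y * g) = b⁻¹ * φ y) ∧
        ∀ k, π k = g → ∀ u ∈ Z.comap π, k * u * k⁻¹ * u⁻¹ ∈ ⁅Z.comap π, D.comap π⁆ :=
      fun g b b0 g1 g2 g3 => ⟨fun x hx => ⟨cmem g2 hx, g3 x hx⟩, fun y hy => ⟨cmem' g2 hy, by
        rw [eq_inv_mul_iff_mul_eq₀ b0, ← g3 _ (cmem' g2 hy)]; congr 1; group⟩,
        fun k hk u hu => commutator_comm_le _ _ (commutator_mem_commutator (hk ▸ g1 : π k ∈ D) hu)⟩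
    refine commutator_le.2 fun x hx y hy => bil h.surj (A := Q) (B := Q) (Y := Z.comap π)
      (fun x y hx hy => ?_) (fun u hu x hx => cZ u x hu hx) (fun u hu x hx => cZ u x hu hx) φa φa
      (fun x y hx hy e => ?_) (fun x y hx hy e => ?_) φs
      [(g, a, a⁻¹), (g', a + 1, (a + 1)⁻¹), (1, 1, 1⁻¹)] ?_ ?_ ?_ hx hy
    · rw [mem_comap, ← φ0 _ (map_commutatorElement π x y ▸ BS.comm_mem_of_mem hx hy),
        map_commutatorElement, commutatorElement_def, φa _ (mul_mem (mul_mem hx hy) (inv_mem hx)) _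
        (inv_mem hy), φa _ (mul_mem hx hy) _ (inv_mem hx), φa _ hx _ hy, inv _ hx, inv _ hy]
      linear_combination (φ (π x) + φ (π y)) * h2
    · rw [commutatorElement_eq_one_iff_mul_comm.2 (cZ x y ((φ0 _ hx).1 e) hy).symm]
      exact one_mem _
    · rw [commutatorElement_eq_one_iff_mul_comm.2 (cZ y x ((φ0 _ hy).1 e) hx)]
      exact one_mem _
    · simp only [List.mem_cons, List.not_mem_nil, or_false]
      rintro _ (rfl | rfl | rfl)
      exacts [iv g a a0 g1 g2 g3, iv g' _ a1 g1' g2' g3',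
        iv 1 1 one_ne_zero (one_mem _) (one_mem _) (by simp)]
    · simp only [List.map_cons, List.sum_cons, List.map_nil, List.sum_nil]
      linear_combination (a + 1) * h2
    · simp only [List.map_cons, List.sum_cons, List.map_nil, List.sum_nil]
      intro e
      field_simp at e
      exact h0 (by linear_combination (a ^ 2 + a) * e - (2 * a ^ 3 + 2 * a ^ 2 + a) * h2)
  have := tr_sub (H := Z.comap π) (M := Z.comap π ⊔ D.comap π) (h.cen z hz)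
    (by rw [mem_comap, hz]; exact one_mem _) le_sup_left ?_ (commutator_mono le_sup_left le_sup_right
      (k (h.tr hz hc (oz ▸ Nat.coprime_two_left.2 hQ))))
  · exact z1 (mem_bot.1 (commutator_le.2 (fun x hx y hy =>
      commutatorElement_eq_one_iff_mul_comm.2 (cZ y x hy (ZQ hx))) this))
  rw [oz, Nat.coprime_two_left, comap_sup_eq _ _ _ h.surj, relIndex_comap,
    map_comap_eq_self_of_surjective h.surj]
  refine hD.of_dvd_nat (Nat.dvd_of_mul_dvd_mul_left (Nat.card_pos (α := Z)) ?_)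
  rw [H5.card_mul_relIndex le_sup_left]
  exact H5.card_sup_dvd nZ

end CE

end W
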