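import Cfsg.Agent.W.M1
import Cfsg.Agent.H8.SzCard

/-! Cyclic Sylow subgroups of linear groups; rank one groups; field lemmas. -/

set_option autoImplicit false
set_option linter.unusedSectionVars false
set_option linter.unusedVariables false

namespace W

open Cfsg Subgroup FT H4 GW
open H5 (IsSylowOf)
open scoped commutatorElement

variable {L X : Type*} [Group L] [Finite L] [Group X] [Finite X] {π : L →* X}

theorem fpf {F V : Type*} [Field F] [Fintype F] [AddCommGroup V] [Module F V] [Finite V]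
    (ρ : X →* Module.End F V) (inj : Function.Injective ρ) {p : ℕ} [hp : Fact p.Prime]
    (hp2 : p ≠ 2) {P : Subgroup X} (hP : IsPGroup p P) (h0 : ¬ p ∣ Fintype.card F)
    (h : ∀ j, 0 < j → j < Module.finrank F V → ¬ p ∣ Fintype.card F ^ j - 1) : IsCyclic P := by
  classical
  have k : ∀ x : X, x ^ p = 1 → x ≠ 1 → ∑ i ∈ Finset.range p, ρ x ^ i = 0 := fun x e x1 => by
    have := Fintype.ofFinite V
    let W := LinearMap.ker (ρ x - 1)
    have c := Equiv.Perm.card_fixedPoints_modEq (f := (ρ x : V → V)) (p := p) (n := 1) (by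
      rw [pow_one]
      exact (Module.End.coe_pow (ρ x) p).symm.trans (by rw [← map_pow, e, map_one]; rfl))
    rw [show Fintype.card (Function.fixedPoints (ρ x : V → V)) = Fintype.card W from
      Fintype.card_congr (Equiv.subtypeEquivRight fun v => by
        simp [W, sub_eq_zero, Function.IsFixedPt]),
      Module.card_eq_pow_finrank (K := F), Module.card_eq_pow_finrank (K := F) (V := W)] at c
    have l : Module.finrank F W < Module.finrank F V := Submodule.finrank_lt fun e =>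
      x1 (inj (by rw [map_one, ← sub_eq_zero]; exact LinearMap.ker_eq_top.1 e))
    have z : W = ⊥ := by
      by_contra hne
      have := Submodule.one_le_finrank_iff.2 hne
      refine h (Module.finrank F V - Module.finrank F W) (by omega) (by omega)
        (((Nat.Prime.dvd_mul hp.out).1 ?_).resolve_left fun d => h0 (hp.out.dvd_of_dvd_pow
          (n := Module.finrank F W) d))
      rw [Nat.mul_sub_one, ← pow_add, Nat.add_sub_cancel' l.le]
      exact (Nat.modEq_iff_dvd' (Nat.pow_le_pow_right Fintype.card_pos l.le)).1 c.symm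
    ext v
    refine (Submodule.mem_bot F).1 (z ▸ LinearMap.mem_ker.2 ?_)
    rw [← Module.End.mul_apply, mul_geom_sum, ← map_pow, e, map_one, sub_self]; rfl
  refine (odd_pgroup_rank1_cyclic hp2 hP).2 fun A hA e => ?_
  by_contra! hlt
  rw [pow_one] at hlt
  have := Finite.one_lt_card_iff_nontrivial.1 (hp.out.one_lt.trans hlt)
  obtain ⟨a, a1⟩ := exists_ne (1 : A)
  have o : ∀ a : A, a ≠ 1 → orderOf a = p := fun a a1 =>
    orderOf_eq_prime (Subtype.ext (e a a.2)) a1
  obtain ⟨b, hb⟩ : ∃ b, b ∉ zpowers a := by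
    by_contra! hh
    rw [← card_top, ← (eq_top_iff' _).2 hh, Nat.card_zpowers, o a a1] at hlt
    exact lt_irrefl _ hlt
  let f : A →* X := P.subtype.comp A.subtype
  have fi : Function.Injective f := P.subtype_injective.comp A.subtype_injective
  have k' : ∀ x : A, x ≠ 1 → ∑ i ∈ Finset.range p, ρ (f x) ^ i = 0 := fun x x1 =>
    k _ (by rw [← map_pow, ← o x x1, pow_orderOf_eq_one, map_one]) (by rwa [Ne, map_eq_one_iff f fi])
  have s : ∑ j ∈ Finset.range p, ∑ i ∈ Finset.range p, ρ (f (b * a ^ j)) ^ i = 0 :=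
    Finset.sum_eq_zero fun j _ => k' _ fun e => hb (by
      rw [eq_inv_of_mul_eq_one_left e]; exact inv_mem (npow_mem_zpowers a j))
  rw [Finset.sum_comm, Finset.sum_eq_single 0 (fun i hi i0 => ?_) (fun h => absurd
    (Finset.mem_range.2 hp.out.pos) h)] at s
  · simp only [pow_zero, Finset.sum_const, Finset.card_range] at s
    have u := (isUnit_iff_not_dvd_char F p).2 (mt (prime_dvd_char_iff_dvd_card p).1 h0)
    rw [← Nat.cast_smul_eq_nsmul F, smul_eq_zero, or_iff_right u.ne_zero] at s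
    exact a1 (fi (inj (by rw [← mul_one (ρ _), s, mul_zero, map_one, map_one, s])))
  have := k' (a ^ i) fun e => Nat.not_dvd_of_pos_of_lt (Nat.pos_of_ne_zero i0)
    (Finset.mem_range.1 hi) (o a a1 ▸ orderOf_dvd_of_pow_eq_one e)
  rw [← mul_zero (ρ (f b) ^ i), ← this, Finset.mul_sum]
  refine Finset.sum_congr rfl fun j _ => ?_
  simp only [← map_pow, ← map_mul]
  rw [(show Commute b (a ^ j) from hA.is_comm.comm _ _).mul_pow, ← pow_mul, ← pow_mul, mul_comm j]

theorem fpfM {F : Type*} [Field F] [Fintype F] {n : ℕ} (ρ : X →* Matrix (Fin n) (Fin n) F)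
    (inj : Function.Injective ρ) {p : ℕ} [hp : Fact p.Prime] (hp2 : p ≠ 2) {P : Subgroup X}
    (hP : IsPGroup p P) (h0 : (Fintype.card F : ZMod p) ≠ 0)
    (h : (2 : ZMod p) ≠ 0 → ∀ j, 0 < j → j < n → (Fintype.card F : ZMod p) ^ j ≠ 1) : IsCyclic P := by
  refine fpf (V := Fin n → F) (MonoidHom.comp (Matrix.toLinAlgEquiv' (R := F)
    (n := Fin n)).toMulEquiv.toMonoidHom ρ)
    (Matrix.toLinAlgEquiv'.injective.comp inj) hp2 hP (mt (ZMod.natCast_eq_zero_iff _ _).2 h0)
    fun j j0 jn d => h (fun e => hp2 ((Nat.prime_dvd_prime_iff_eq hp.out Nat.prime_two).1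
      ((ZMod.natCast_eq_zero_iff 2 p).1 e))) j j0 (by simpa using jn) ?_
  rw [← ZMod.natCast_eq_zero_iff, Nat.cast_pred (pow_pos Fintype.card_pos j), sub_eq_zero] at d
  exact_mod_cast d

theorem poly_ne {F : Type*} [Field F] [Finite F] (p : Polynomial F) (hp : p ≠ 0) {s : Set F}
    (h : p.natDegree < Nat.card s) : ∃ a ∈ s, p.eval a ≠ 0 := by
  by_contra! hh
  have := Fintype.ofFinite s
  exact hp (Polynomial.eq_zero_of_natDegree_lt_card_of_eval_eq_zero p Subtype.val_injective
    (fun a : s => hh a a.2) (by rwa [← Nat.card_eq_fintype_card]))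

open Polynomial in
theorem ex4 {F : Type*} [Field F] [Finite F] {s : Set F} (h : 4 < Nat.card s) :
    ∃ a ∈ s, a ^ 4 ≠ a := by
  obtain ⟨a, ha, e⟩ := poly_ne (X ^ 4 - X : F[X]) (fun e => by simpa using congrArg (coeff · 1) e)
    (lt_of_le_of_lt (by compute_degree) h)
  exact ⟨a, ha, by simpa [sub_eq_zero] using e⟩

open Polynomial in
theorem ex7 {F : Type*} [Field F] [Finite F] [CharP F 2] (h : 8 < Nat.card F) : ∃ x y : F,
    x * y * (x + 1) * (y + 1) * (x + y) * (x + y + 1) ≠ 0 ∧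
    1⁻¹ + (x⁻¹ + (y⁻¹ + ((x + 1)⁻¹ + ((y + 1)⁻¹ + ((x + y)⁻¹ + (x + y + 1)⁻¹))))) ≠ 0 := by
  rw [← Nat.card_congr (Equiv.Set.univ F)] at h
  obtain ⟨x, -, hx⟩ := ex4 (s := (Set.univ : Set F)) (by omega)
  have d : x ^ 2 + x ≠ 0 := fun e => hx (by grind)
  obtain ⟨y, -, hy⟩ := poly_ne ((X ^ 4 + C (x ^ 2 + x + 1) * X ^ 2 + C (x ^ 2 + x) * X) *
    (C (x ^ 2 + x + 1) * (X ^ 4 + C (x ^ 2 + x + 1) * X ^ 2 + C (x ^ 2 + x) * X) +
      C ((x ^ 2 + x) ^ 2)) : F[X]) (mul_ne_zero
      (fun e => by simpa [coeff_X, coeff_C, -map_add] using congrArg (coeff · 4) e)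
      (fun e => d (by simpa using congrArg (eval 0) e))) (lt_of_le_of_lt (by compute_degree!) h)
  simp only [eval_mul, eval_add, eval_pow, eval_C, eval_X] at hy
  have k : x * y * (x + 1) * (y + 1) * (x + y) * (x + y + 1) ≠ 0 := fun e =>
    mul_ne_zero d (left_ne_zero_of_mul hy) (by grind)
  refine ⟨x, y, k, fun e => right_ne_zero_of_mul hy ?_⟩
  simp only [ne_eq, mul_eq_zero, not_or] at k
  obtain ⟨⟨⟨⟨⟨k1, k2⟩, k3⟩, k4⟩, k5⟩, k6⟩ := k
  field_simp at e
  grind

/-- a rank one group with cyclic torus -/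
structure R1 (S : BS.Split X) (D : Subgroup X) : Prop where
  two : IsPGroup 2 S.Q
  nt : S.Q ≠ ⊥
  cyc : IsCyclic D
  odd : Odd (Nat.card D)
  nor : D ≤ Nor S.Q
  sup : S.H ≤ S.Q ⊔ D

namespace R1

variable {S : BS.Split X} {D : Subgroup X} (r : R1 S D)
include r

theorem dvd : Nat.card X ∣ Nat.card S.Q * Nat.card D * (Nat.card S.Q + 1) := by
  rw [← S.H.card_mul_index, H8.split_index]
  exact Nat.mul_dvd_mul_right ((card_dvd_of_le r.sup).trans (H5.card_sup_dvd r.nor)) _

theorem oddQ : Odd S.Q.index := by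
  have := r.dvd
  rw [← S.Q.card_mul_index, mul_assoc, Nat.mul_dvd_mul_iff_left Nat.card_pos] at this
  exact (r.odd.mul (even_iff_two_dvd.2 (U6.dvd_card_of_ne_bot r.two r.nt)).add_one).of_dvd_nat this

theorem cop {p : ℕ} (hp : p.Prime) (h2 : p ≠ 2) (h : ¬ p ∣ Nat.card S.Q + 1) :
    p.Coprime D.index := by
  have := r.dvd
  rw [← D.card_mul_index, mul_comm (Nat.card S.Q), mul_assoc,
    Nat.mul_dvd_mul_iff_left Nat.card_pos] at this
  obtain ⟨k, hk⟩ := IsPGroup.iff_card.1 r.two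
  refine (Nat.Coprime.mul_right ?_ (hp.coprime_iff_not_dvd.2 h)).coprime_dvd_right this
  exact hk ▸ ((Nat.coprime_primes hp Nat.prime_two).2 h2).pow_right k

end R1

namespace CE

variable (h : CE π) [Group.IsPerfect L]
include h

theorem syl {z : L} (hz : π z = 1) (hp : (orderOf z).Prime)
    (hP : ∀ P : Subgroup X, IsPGroup (orderOf z) P → IsCyclic P) : z = 1 := by
  have := Fact.mk hp
  obtain ⟨P⟩ : Nonempty (Sylow (orderOf z) X) := inferInstance
  exact h.cyc hz Group.IsPerfect.mem_commutator (hP _ P.2)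
    (hp.coprime_iff_not_dvd.2 P.not_dvd_index)

theorem inj {S : BS.Split X} {D : Subgroup X} (r : R1 S D) (h2 : ∀ z, π z = 1 → z * z = 1 → z = 1)
    (ho : ∀ z, π z = 1 → (orderOf z).Prime → orderOf z ≠ 2 → orderOf z ∣ Nat.card S.Q + 1 → z = 1) :
    Function.Injective π := by
  refine (MonoidHom.ker_eq_bot_iff π).1 (by_contra fun hne => ?_)
  obtain ⟨z, hz, hp⟩ := exists_prime_orderOf_mem hne
  refine ne_one_of_prime_orderOf hp ?_
  by_cases e : orderOf z = 2
  · exact h2 z hz (by rw [← sq, ← e, pow_orderOf_eq_one])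
  by_cases d : orderOf z ∣ Nat.card S.Q + 1
  · exact ho z hz hp e d
  exact h.cyc hz Group.IsPerfect.mem_commutator r.cyc (r.cop hp e d)

end CE

end W
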