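import Cfsg.Agent.W.M2

/-! The Schur multiplier of `Sz(q)`, `q > 8`, is trivial. -/

set_option autoImplicit false
set_option linter.unusedSectionVars false
set_option linter.unusedVariables false

namespace W

open Cfsg Subgroup FT H4 GW
open H5 (IsSylowOf)
open scoped commutatorElement

variable {L X : Type*} [Group L] [Finite L] [Group X] [Finite X] {π : L →* X}

/-- coordinates on a special 2-group -/
structure Co {F : Type*} [Field F] (Q Z D : Subgroup X) (φ ψ : X → F) : Prop where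
  sq : ∀ z ∈ Z, z * z = 1 ∧ ∃ y ∈ Q, y * y = z
  cen : ∀ z ∈ Z, ∀ y ∈ Q, y * z = z * y
  φa : ∀ x ∈ Q, ∀ y ∈ Q, φ (x * y) = φ x + φ y
  φ0 : ∀ x ∈ Q, φ x = 0 ↔ x ∈ Z
  φs : ∀ a, ∃ y ∈ Q, φ y = a
  ψa : ∀ x ∈ Z, ∀ y ∈ Z, ψ (x * y) = ψ x + ψ y
  ψ0 : ∀ x ∈ Z, ψ x = 0 → x = 1
  le : Z ≤ Q
  nZ : D ≤ Nor Z
  nQ : D ≤ Nor Q
  two : (2 : F) = 0

theorem CE.two2 (h : CE π) [Group.IsPerfect L] {F : Type*} [Field F] {Q Z D : Subgroup X}
    {φ ψ : X → F} (c : Co Q Z D φ ψ) (hQ : Odd Q.index) (hD : Odd (Nat.card D))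
    (l : List (F × F)) (hl : ∀ p ∈ l, p.2 ≠ 0 ∧ ∃ d ∈ D, (∀ x ∈ Z, ψ (d * x * d⁻¹) = p.1 * ψ x) ∧
      ∀ x ∈ Q, φ (d * x * d⁻¹) = p.2 * φ x)
    (h1 : (l.map (·.1)).sum = 0) (h2 : (l.map (·.2⁻¹)).sum ≠ 0) {a : F} (h0 : a ^ 4 ≠ a)
    (ha : ∀ b, b = a ∨ b = a + 1 → ∃ g ∈ D, ∀ x ∈ Q, φ (g * x * g⁻¹) = b * φ x) {z : L}
    (hz : π z = 1) (zz : z * z = 1) : z = 1 := by
  refine h.two hQ hD c.nZ (fun u x hu hx => ?_) c.φa c.φ0 c.le c.φs h0 (fun b hb =>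
    (ha b hb).imp fun g hg => ⟨hg.1, c.nQ hg.1, hg.2⟩) c.two hz Group.IsPerfect.mem_commutator zz
  choose! l0 d hd l1 l2 using hl
  refine (commutatorElement_eq_one_iff_mul_comm.1 (mem_bot.1 (bil h.surj (Y := π.ker)
    (fun x y hx hy => ?_) (fun u hu x _ => h.cen u hu x) (fun u hu x _ => h.cen u hu x) c.ψa c.φa
    (fun x y hx hy e => ?_) (fun x y hx hy e => ?_) c.φs (l.map fun p => (d p, p.1, p.2⁻¹)) ?_
    (by rwa [List.map_map]) (by rwa [List.map_map]) hu hx))).symm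
  · rw [MonoidHom.mem_ker, map_commutatorElement]
    exact commutatorElement_eq_one_iff_mul_comm.2 (c.cen _ hx _ hy).symm
  · exact commutatorElement_eq_one_iff_mul_comm.2 (h.cen _ (c.ψ0 _ hx e) _).symm
  · exact commutatorElement_eq_one_iff_mul_comm.2 (h.abZ c.sq c.cen hx ((c.φ0 _ hy).1 e))
  simp only [List.mem_map]
  rintro _ ⟨p, hp, rfl⟩
  refine ⟨fun x hx => ⟨cmem (c.nZ (hd p hp)) hx, l1 p hp x hx⟩, fun y hy =>
    ⟨cmem' (c.nQ (hd p hp)) hy, ?_⟩, fun g _ u hu => by rw [h.cen u hu g]; simp⟩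
  rw [eq_inv_mul_iff_mul_eq₀ (l0 p hp), ← l2 p hp _ (cmem' (c.nQ (hd p hp)) hy)]
  congr 1; group

open BS H8 Lie in
theorem sz_inj {F : Type*} [Field F] [Fintype F] {m : ℕ} (hF : Fintype.card F = 2 ^ (2 * m + 1))
    (hm : 2 ≤ m) {π : L →* Sz F (2 ^ (m + 1))} (h : CE π) [Group.IsPerfect L] :
    Function.Injective π := by
  have h2 := H2.two_eq_zero_of_card hF
  have := H2.charP_two_of h2
  obtain ⟨T, hT⟩ := exists_tits hF
  let σ : F → F → Sz F (2 ^ (m + 1)) := fun a b => ⟨T.S a b, (mem_Sz_iff T hT).2 (T.S_mem a b)⟩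
  let δ : Fˣ →* Sz F (2 ^ (m + 1)) := T.D.codRestrict _ fun e => (mem_Sz_iff T hT).2 (T.D_mem e)
  have sm : ∀ a b c d, σ a b * σ c d = σ (a + c) (b + d + T.θ a * c) := fun a b c d =>
    Subtype.ext (T.S_mul a b c d)
  have ds : ∀ e a b, δ e * σ a b * (δ e)⁻¹ = σ (T.θ e * a) (T.θ e * e ^ 2 * b) := fun e a b =>
    Subtype.ext (T.D_S e a b)
  have s0 : σ 0 0 = 1 := Subtype.ext T.S_zero
  have mQ : ∀ {g}, g ∈ (szSplit T hT).Q ↔ ∃ a b, g = σ a b :=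
    exists₂_congr fun a b => ⟨fun e => Subtype.ext e, congrArg Subtype.val⟩
  let Z : Subgroup (Sz F (2 ^ (m + 1))) := (MonoidHom.mk' (fun b : Multiplicative F => σ 0 b.toAdd)
    fun a b => by simp [sm]).range
  have mZ : ∀ {g}, g ∈ Z ↔ ∃ b, g = σ 0 b := ⟨fun ⟨b, e⟩ => ⟨_, e.symm⟩, fun ⟨b, e⟩ => ⟨b, e.symm⟩⟩
  let φ : Sz F (2 ^ (m + 1)) → F := fun g => g.1 1 0
  let ψ : Sz F (2 ^ (m + 1)) → F := fun g => g.1 2 0
  have f1 : ∀ a b, φ (σ a b) = a := fun a b => rfl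
  have f2 : ∀ a b, ψ (σ a b) = b := fun a b => rfl
  have c8 : 2 ^ 5 ≤ Fintype.card F := hF ▸ Nat.pow_le_pow_right two_pos (by omega)
  have oD : Nat.card δ.range ∣ Fintype.card F - 1 := by
    rw [← Nat.card_eq_fintype_card, ← Nat.card_units]; exact card_range_dvd δ
  have ev : Even (Fintype.card F) := hF ▸ Nat.even_pow.2 ⟨even_two, by omega⟩
  have c : Co (szSplit T hT).Q Z δ.range φ ψ := by
    refine ⟨fun z hz => ?_, fun z hz y hy => ?_, fun x hx y hy => ?_, fun x hx => ?_,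
      fun a => ⟨σ a 0, mQ.2 ⟨_, _, rfl⟩, rfl⟩, fun x hx y hy => ?_, fun x hx e => ?_,
      fun x hx => ?_, ?_, ?_, h2⟩
    · obtain ⟨b, rfl⟩ := mZ.1 hz
      obtain ⟨a, ha⟩ : ∃ a, T.θ a * a = b := by
        refine Finite.surjective_of_injective (f := fun a => T.θ a * a) (fun x y e => ?_) b
        have e1 : T.θ x * x = T.θ y * y := e
        have e2 := congrArg T.θ e1
        rw [map_mul, map_mul, T.sq, T.sq] at e2
        by_cases x0 : T.θ x * x = 0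
        · have y0 := e1 ▸ x0
          simp only [mul_eq_zero, map_eq_zero, or_self] at x0 y0
          rw [x0, y0]
        exact mul_left_cancel₀ x0 (by linear_combination e2 - y * e1)
      exact ⟨by rw [sm, ← s0]; congr 1 <;> grind, σ a 0, mQ.2 ⟨_, _, rfl⟩, by
        rw [sm]; congr 1 <;> grind⟩
    · obtain ⟨b, rfl⟩ := mZ.1 hz
      obtain ⟨c, d, rfl⟩ := mQ.1 hy
      simp [sm, add_comm]
    · obtain ⟨a, b, rfl⟩ := mQ.1 hx
      obtain ⟨c, d, rfl⟩ := mQ.1 hy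
      rw [sm, f1, f1, f1]
    · obtain ⟨a, b, rfl⟩ := mQ.1 hx
      exact ⟨fun e => mZ.2 ⟨b, by rw [← e, f1]⟩, fun e => (mZ.1 e).elim fun c e => by rw [e, f1]⟩
    · obtain ⟨b, rfl⟩ := mZ.1 hx
      obtain ⟨d, rfl⟩ := mZ.1 hy
      simp [sm, f2]
    · obtain ⟨b, rfl⟩ := mZ.1 hx
      rw [← s0, ← e, f2]
    · exact mQ.2 ⟨0, mZ.1 hx⟩
    · rintro _ ⟨e, rfl⟩
      refine mem_normalizer_fintype fun x hx => ?_
      obtain ⟨b, rfl⟩ := mZ.1 hx
      exact mZ.2 ⟨_, by rw [ds, mul_zero]⟩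
    · rintro _ ⟨e, rfl⟩
      refine mem_normalizer_fintype fun x hx => ?_
      obtain ⟨a, b, rfl⟩ := mQ.1 hx
      exact mQ.2 ⟨_, _, ds e a b⟩
  have r : R1 (szSplit T hT) δ.range := by
    refine ⟨IsPGroup.of_card (n := (2 * m + 1) * 2) (by
      rw [card_szQ, Nat.card_eq_fintype_card, hF, pow_mul]), fun e => ?_,
      isCyclic_of_surjective _ δ.rangeRestrict_surjective,
      (Nat.Even.sub_odd (by omega) ev odd_one).of_dvd_nat oD, c.nQ, fun g h0 => ?_⟩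
    · have := card_szQ T hT
      rw [e, card_bot, Nat.card_eq_fintype_card] at this
      nlinarith
    have hg := (mem_Sz_iff T hT).1 g.2
    have h0 : g.1 0 3 = 0 := h0
    have h1 : g.1 2 2 ≠ 0 := right_ne_zero_of_mul_eq_one (T.tri hg h0).2.2.2.2.2.2
    have h2 := T.eq_S (T.D_mul_mem (Units.mk0 _ (inv_ne_zero h1)) hg)
      (by simp [T.D_val, Tits.mD, Matrix.mul_apply, Fin.sum_univ_four, h0])
      (by simp [T.D_val, Tits.mD, Matrix.mul_apply, Fin.sum_univ_four, h1])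
    exact (mul_mem_cancel_left (mem_sup_right (MonoidHom.mem_range.2
      ⟨Units.mk0 _ (inv_ne_zero h1), rfl⟩))).1 (mem_sup_left ⟨_, _, h2⟩)
  have wt : ∀ c : F, c ≠ 0 → ∃ d ∈ δ.range, (∀ x ∈ Z, ψ (d * x * d⁻¹) = c * T.θ c * ψ x) ∧
      ∀ x ∈ (szSplit T hT).Q, φ (d * x * d⁻¹) = c * φ x := fun c c0 => by
    obtain ⟨e, rfl⟩ := T.θ.surjective c
    refine ⟨_, ⟨Units.mk0 e (by simpa using c0), rfl⟩, fun x hx => ?_, fun x hx => ?_⟩
    · obtain ⟨b, rfl⟩ := mZ.1 hx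
      rw [ds, f2, f2, T.sq]; rfl
    · obtain ⟨a, b, rfl⟩ := mQ.1 hx
      rw [ds, f1, f1]; rfl
  refine h.inj r (fun z hz zz => ?_) fun z hz hp p2 d => h.syl hz hp fun P hP => ?_
  · obtain ⟨x, y, k, e⟩ := ex7 (F := F) (by rw [Nat.card_eq_fintype_card]; omega)
    obtain ⟨a, -, ha⟩ := ex4 (s := (Set.univ : Set F)) (by
      rw [Nat.card_congr (Equiv.Set.univ F), Nat.card_eq_fintype_card]; omega)
    refine h.two2 c r.oddQ r.odd ([1, x, y, x + 1, y + 1, x + y, x + y + 1].map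
      fun c => (c * T.θ c, c)) ?_ ?_ (by simpa using e) ha
      (fun b hb => (wt b ?_).imp fun g hg => ⟨hg.1, hg.2.2⟩) hz zz
    · simp only [List.mem_map]
      rintro _ ⟨c, hc, rfl⟩
      have c0 : c ≠ 0 := by
        rintro rfl
        simp only [List.mem_cons, List.not_mem_nil, or_false] at hc
        rcases hc with e | e | e | e | e | e | e <;> simp [← e] at k ⊢
        exact zero_ne_one e
      exact ⟨c0, wt c c0⟩
    · simp only [List.map_cons, List.sum_cons, List.map_nil, List.sum_nil, map_add, map_one]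
      grind
    · rintro rfl; grind
  have := Fact.mk hp
  generalize orderOf z = p at *
  rw [card_szQ, Nat.card_eq_fintype_card, ← ZMod.natCast_eq_zero_iff] at d
  push_cast at d
  refine fpfM ((Units.coeHom _).comp (Subgroup.subtype _)) (Units.val_injective.comp
    Subtype.val_injective) p2 hP (fun e => by simp [e] at d) fun t j j0 j4 e => t ?_
  interval_cases j <;> grind

end W
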