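import Cfsg.Agent.W.M3

/-! More on central extensions. -/

set_option autoImplicit false
set_option linter.unusedSectionVars false
set_option linter.unusedVariables false

namespace W

open Cfsg Subgroup FT H4 GW
open H5 (IsSylowOf)
open scoped commutatorElement

variable {L X : Type*} [Group L] [Finite L] [Group X] [Finite X] {π : L →* X}

theorem comm_ext {A : Subgroup X} {x z : X} (hA : ∀ a ∈ A, ∀ b ∈ A, a * b = b * a) (hx : x ∈ Nor A)
    (hz : z ∈ ⁅A ⊔ zpowers x, A ⊔ zpowers x⁆) : ∃ a ∈ A, ⁅a, x⁆ = z := by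
  have m : ∀ {a y}, a ∈ A → y ∈ zpowers x → y * a * y⁻¹ ∈ A := fun ha hy =>
    cmem (zpowers_le.2 hx hy) ha
  have m' : ∀ {a}, a ∈ A → ⁅a, x⁆ ∈ A := fun {a} ha =>
    H5.mem_of_eq (mul_mem ha (m (inv_mem ha) (mem_zpowers x))) (by group)
  let f : A →* X := MonoidHom.mk' (fun a => ⁅(a : X), x⁆) fun a b => by
    rw [hA _ (m' a.2) _ (m' b.2), ← mul_inv_cancel_right ⁅(b : X), x⁆ a, ← hA _ a.2 _ (m' b.2)]
    simp only [commutatorElement_def, coe_mul]; group
  have k : ∀ n : ℕ, ∀ a ∈ A, ⁅a, x ^ n⁆ ∈ f.range := fun n => by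
    induction n with
    | zero => simp
    | succ n ih =>
    intro a ha
    refine H5.mem_of_eq (mul_mem (ih a ha) (MonoidHom.mem_range.2 ⟨⟨_, m ha
      (npow_mem_zpowers x n)⟩, rfl⟩)) ?_
    simp only [f, MonoidHom.mk'_apply, commutatorElement_def]; group
  refine (commutator_le.2 (fun u hu v hv => ?_) hz : z ∈ f.range).elim fun a e => ⟨a, a.2, e⟩
  obtain ⟨a, ha, _, hy, rfl⟩ := (mem_sup_of_le_normalizer_left (zpowers_le.2 hx)).1 hu
  obtain ⟨b, hb, _, hy', rfl⟩ := (mem_sup_of_le_normalizer_left (zpowers_le.2 hx)).1 hv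
  obtain ⟨i, rfl⟩ := mem_powers_iff_mem_zpowers.2 hy
  obtain ⟨j, rfl⟩ := mem_powers_iff_mem_zpowers.2 hy'
  refine H5.mem_of_eq (mul_mem (k j a ha) (inv_mem (k i b hb))) ?_
  calc _ = a * (x ^ j * a⁻¹ * (x ^ j)⁻¹ * (x ^ i * b * (x ^ i)⁻¹)) * b⁻¹ := by
        simp only [commutatorElement_def]; group
    _ = _ := by rw [hA _ (m (inv_mem ha) hy') _ (m hb hy)]; simp only [commutatorElement_def]; group

namespace CE

variable (h : CE π)
include h

theorem cmm {x y x' y' : L} (e1 : π x = π x') (e2 : π y = π y') : ⁅x, y⁆ = ⁅x', y'⁆ := by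
  have k : ∀ {x x'} y, π x = π x' → ⁅x, y⁆ = ⁅x', y⁆ := fun {x x'} y e => by
    rw [← mul_inv_cancel_left x x', commutatorElement_def (x * _), mul_assoc x _ y,
      ← h.cen (x⁻¹ * x') (by rw [map_mul, map_inv, e, inv_mul_cancel]), commutatorElement_def]
    group
  rw [k y e1, ← commutatorElement_inv, k x' e2, commutatorElement_inv]

theorem grun [Group.IsPerfect L] {a : L} (ha : π a ∈ center X) (g : L) : g * a = a * g := by
  refine mem_center_iff.1 ((QuotientGroup.eq_one_iff a).1 (mem_bot.1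
    (Group.IsPerfect.center_quotient_center_eq_bot (G := L) ▸ mem_center_iff.2 fun y => ?_))) g
  obtain ⟨y, rfl⟩ := QuotientGroup.mk_surjective y
  refine QuotientGroup.eq.2 (mem_center_iff.2 (h.cen _ ?_))
  rw [map_mul, map_inv, map_mul, map_mul, mem_center_iff.1 ha, inv_mul_cancel]

theorem lift [Group.IsPerfect L] {Y : Type*} [Group Y] [Finite Y] [Group.IsPerfect Y] {ρ : Y →* X}
    (h' : CE ρ) (u : ∀ (P : Subgroup (L × Y)) (p : commutator P →* Y), Group.IsPerfect (commutator P)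
      → CE p → Function.Injective p) : ∃ f : Y →* L, Function.Surjective f ∧ ∀ y, π (f y) = ρ y := by
  let P : Subgroup (L × Y) := (π.comp (MonoidHom.fst _ _)).eqLocus (ρ.comp (MonoidHom.snd _ _))
  let p1 : P →* L := (MonoidHom.fst _ _).comp P.subtype
  let p2 : P →* Y := (MonoidHom.snd _ _).comp P.subtype
  have s1 : Function.Surjective p1 := fun y => (h'.surj (π y)).elim fun g hg =>
    ⟨⟨(y, g), hg.symm⟩, rfl⟩
  have s2 : Function.Surjective p2 := fun y => (h.surj (ρ y)).elim fun g hg => ⟨⟨(g, y), hg⟩, rfl⟩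
  have c2 : CE p2 := ⟨s2, fun z hz g => Subtype.ext (Prod.ext (h.cen _ (z.2.trans
    ((congrArg ρ hz).trans ρ.map_one)) _) (by
      change p2 (g * z) = p2 (z * g); rw [map_mul, map_mul, hz, mul_one, one_mul]))⟩
  have s1' := surj_comm p1 s1 Group.IsPerfect.commutator_eq_top
  have s2' := surj_comm p2 s2 Group.IsPerfect.commutator_eq_top
  let e := MulEquiv.ofBijective _ ⟨u P _ (isPerfect_iff.2 (le_antisymm (commutator_mono le_top
    le_top) (commutator_le.2 fun x _ y _ => ?_))) ⟨s2', fun z hz g => Subtype.ext (c2.cen _ hz g)⟩, s2'⟩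
  · refine ⟨(p1.comp (commutator P).subtype).comp e.symm.toMonoidHom,
      s1'.comp e.symm.surjective, fun y => ?_⟩
    obtain ⟨y, rfl⟩ := e.surjective y
    exact (congrArg (fun y : commutator P => π (p1 y)) (e.symm_apply_apply y)).trans y.1.2
  obtain ⟨x', hx⟩ := s2' (p2 x)
  obtain ⟨y', hy⟩ := s2' (p2 y)
  exact c2.cmm hx hy ▸ commutator_mem_commutator x'.2 y'.2

end CE

end W
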